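import Groth.Agent.H26HilbChow.SemilocalBasis
import Mathlib.LinearAlgebra.ExteriorPower.Basis
import Mathlib.LinearAlgebra.Matrix.Block
import Mathlib.RingTheory.Norm.Transitivity
import Mathlib.RingTheory.Localization.Away.Basic

/-!
# Coordinates up to a scalar and top exterior powers
-/

set_option autoImplicit false
set_option backward.isDefEq.respectTransparency false

universe u v

namespace Groth.Agent.H26HilbChow

variable {A : Type u} [CommRing A] {Y : Type u} [AddCommGroup Y] [Module A Y]

theorem ιMulti_eq_det {ι : Type v} [Fintype ι] [DecidableEq ι] {N : ℕ} (e : ι ≃ Fin N)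
    (X : Matrix ι ι A) (z y : ι → Y) (hy : ∀ i, y i = ∑ j, X i j • z j) :
    exteriorPower.ιMulti A N (y ∘ e.symm) = X.det • exteriorPower.ιMulti A N (z ∘ e.symm) := by
  let V : (Fin N → A) →ₗ[A] Y := Fintype.linearCombination A (z ∘ e.symm)
  let X' : Fin N → Fin N → A := Matrix.submatrix X e.symm e.symm
  let b := Pi.basisFun A (Fin N)
  have h1 : exteriorPower.ιMulti A N X' = b.det X' • exteriorPower.ιMulti A N b := by
    have h : exteriorPower.ιMulti A N (M := Fin N → A) =
        (LinearMap.toSpanSingleton A _ (exteriorPower.ιMulti A N b)).compAlternatingMap b.det := by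
      refine Module.Basis.ext_alternating b fun i hi => ?_
      let σ := Equiv.ofBijective i (Finite.injective_iff_bijective.1 hi)
      have e : (fun j => b (i j)) = (b : Fin N → (Fin N → A)) ∘ σ := rfl
      rw [e, AlternatingMap.map_perm, AlternatingMap.map_perm]
      congr 1
      simp [LinearMap.compAlternatingMap_apply, b.det_self]
    conv_lhs => rw [h]
    rfl
  have hVX : V ∘ X' = y ∘ e.symm := by
    funext t
    show ∑ u, X (e.symm t) (e.symm u) • z (e.symm u) = y (e.symm t)
    rw [hy, e.symm.sum_comp (fun j => X (e.symm t) j • z j)]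
  have hVb : V ∘ b = z ∘ e.symm := by
    funext t
    simp [V, b, Fintype.linearCombination_apply, Pi.single_apply, ite_smul]
  have hdet : b.det X' = X.det := by
    rw [Pi.basisFun_det_apply]
    exact X.det_submatrix_equiv_self e.symm
  have := congrArg (exteriorPower.map N V) h1
  rwa [map_smul, exteriorPower.map_apply_ιMulti, exteriorPower.map_apply_ιMulti, hVX, hVb, hdet] at this

/-- Coordinates with respect to `z`, up to the scalar `ρ`. -/
structure Coord (A : Type u) [CommRing A] (Y : Type u) [AddCommGroup Y] [Module A Y] (ι : Type v)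
    [Fintype ι] [DecidableEq ι] where
  /-- The vectors. -/
  z : ι → Y
  /-- The coordinates. -/
  W : Y →ₗ[A] (ι → A)
  /-- The scalar. -/
  ρ : A
  sum_W : ∀ y, ∑ i, W y i • z i = ρ • y
  W_z : ∀ i, W (z i) = ρ • Pi.single i 1

namespace Coord

variable {ι : Type v} [Fintype ι] [DecidableEq ι] (C : Coord A Y ι) {N : ℕ} (e : ι ≃ Fin N)

/-- The generator. -/
noncomputable def top : ⋀[A]^N Y := exteriorPower.ιMulti A N (C.z ∘ e.symm)

theorem smul_ιMulti (y : ι → Y) :
    C.ρ ^ N • exteriorPower.ιMulti A N (y ∘ e.symm) =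
      Matrix.det (fun i j => C.W (y i) j) • C.top e := by
  rw [top, ← ιMulti_eq_det e _ C.z (fun i => C.ρ • y i) fun i => (C.sum_W (y i)).symm]
  have := (exteriorPower.ιMulti A N (M := Y)).toMultilinearMap.map_smul_univ (fun _ => C.ρ) (y ∘ e.symm)
  simpa [Function.comp_def] using this.symm

theorem exists_smul_eq (x : ⋀[A]^N Y) : ∃ u : A, C.ρ ^ N • x = u • C.top e := by
  have hx : x ∈ Submodule.span A (Set.range (exteriorPower.ιMulti A N (M := Y))) := by
    rw [exteriorPower.ιMulti_span]; trivial
  induction hx using Submodule.span_induction with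
  | mem w hw =>
    obtain ⟨a, rfl⟩ := hw
    refine ⟨Matrix.det (fun i j => C.W ((a ∘ e) i) j), ?_⟩
    have := C.smul_ιMulti e (a ∘ e)
    rwa [show (a ∘ e) ∘ e.symm = a from funext fun t => congrArg a (e.apply_symm_apply t)] at this
  | zero => exact ⟨0, by simp⟩
  | add x y _ _ hx hy =>
    obtain ⟨u, hu⟩ := hx
    obtain ⟨u', hu'⟩ := hy
    exact ⟨u + u', by rw [smul_add, hu, hu', add_smul]⟩
  | smul a x _ hx =>
    obtain ⟨u, hu⟩ := hx
    exact ⟨a * u, by rw [smul_comm, hu, smul_smul]⟩

/-- The coordinate of the top exterior power. -/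
noncomputable def δ : (⋀[A]^N Y) →ₗ[A] A :=
  exteriorPower.alternatingMapLinearEquiv
    ((Matrix.detRowAlternating (R := A) (n := Fin N)).compLinearMap
      (LinearMap.funLeft A A e.symm ∘ₗ C.W))

theorem δ_top : C.δ e (C.top e) = C.ρ ^ N := by
  rw [δ, top, exteriorPower.alternatingMapLinearEquiv_apply_ιMulti]
  show Matrix.det (fun t u => C.W (C.z (e.symm t)) (e.symm u)) = _
  have h : (fun t u => C.W (C.z (e.symm t)) (e.symm u)) = C.ρ • (1 : Matrix (Fin N) (Fin N) A) := by
    funext t u
    rw [C.W_z]
    simp [Matrix.one_apply, Pi.single_apply, eq_comm]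
  rw [h, Matrix.det_smul, Matrix.det_one, mul_one, Fintype.card_fin]

theorem eq_of_smul_top {u u' : A} (h : u • C.top e = u' • C.top e) : C.ρ ^ N * u = C.ρ ^ N * u' := by
  have := congrArg (C.δ e) h
  simpa [δ_top, mul_comm] using this

end Coord

/-- The determinant of a block matrix of norms, up to powers of `r`. -/
theorem exists_det_comp {B : Type u} [CommRing B] (r : A) {n k : ℕ}
    (Mb : B → Matrix (Fin n) (Fin n) A) (hadd : ∀ b c, Mb (b + c) = Mb b + Mb c)
    (hone : Mb 1 = r • 1) (hmul : ∀ b c, Mb b * Mb c = r • Mb (b * c)) (P : Matrix (Fin k) (Fin k) B) :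
    ∃ N : ℕ, r ^ N * ((Mb P.det).det * r ^ (n * k)) =
      r ^ N * ((((P.map Mb).comp (Fin k) (Fin k) (Fin n) (Fin n) A)).det * r ^ n) := by
  let A' := Localization.Away r
  let alg := algebraMap A A'
  let u : A' := IsLocalization.Away.invSelf r
  have hu : alg r * u = 1 := IsLocalization.Away.mul_invSelf r
  let f : B →+* Matrix (Fin n) (Fin n) A' :=
    { toFun := fun b => u • (Mb b).map alg
      map_one' := by
        rw [hone]
        ext i j
        simp only [Matrix.smul_apply, Matrix.map_apply, smul_eq_mul, Matrix.one_apply]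
        split_ifs <;> simp [mul_comm u, hu]
      map_mul' := fun b c => by
        rw [Matrix.smul_mul, Matrix.mul_smul, ← Matrix.map_mul, hmul, smul_smul]
        ext i j
        simp only [Matrix.smul_apply, Matrix.map_apply, smul_eq_mul, map_mul]
        rw [mul_assoc, ← mul_assoc u (alg r), mul_comm u (alg r), hu, one_mul]
      map_zero' := by
        have h0 := hadd 0 0
        rw [add_zero] at h0
        rw [left_eq_add.1 h0]
        simp
      map_add' := fun b c => by
        rw [hadd, Matrix.map_add _ (map_add alg), smul_add] }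
  have hd := Matrix.det_det (M := P) f
  have h1 : (f P.det).det = u ^ n * alg (Mb P.det).det := by
    show (u • (Mb P.det).map alg).det = _
    rw [Matrix.det_smul, Fintype.card_fin, ← RingHom.mapMatrix_apply, ← RingHom.map_det]
  have h2 : ((P.map f).comp (Fin k) (Fin k) (Fin n) (Fin n) A').det =
      u ^ (n * k) * alg ((P.map Mb).comp (Fin k) (Fin k) (Fin n) (Fin n) A).det := by
    have : (P.map f).comp (Fin k) (Fin k) (Fin n) (Fin n) A' =
        u • ((P.map Mb).comp (Fin k) (Fin k) (Fin n) (Fin n) A).map alg := by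
      ext ⟨i, m⟩ ⟨l, m'⟩
      rfl
    rw [this, Matrix.det_smul, Fintype.card_prod, Fintype.card_fin, Fintype.card_fin, mul_comm k n,
      ← RingHom.mapMatrix_apply, ← RingHom.map_det]
  rw [h1, h2] at hd
  have h3 : alg ((Mb P.det).det * r ^ (n * k)) =
      alg (((P.map Mb).comp (Fin k) (Fin k) (Fin n) (Fin n) A).det * r ^ n) := by
    have := congrArg (fun z => z * (alg r ^ n * alg r ^ (n * k))) hd
    have e1 : alg r ^ n * u ^ n = 1 := by rw [← mul_pow, hu, one_pow]
    have e2 : alg r ^ (n * k) * u ^ (n * k) = 1 := by rw [← mul_pow, hu, one_pow]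
    rw [map_mul, map_mul, map_pow, map_pow]
    linear_combination this - alg r ^ (n * k) * alg (Mb P.det).det * e1
      + alg r ^ n * alg ((P.map Mb).comp (Fin k) (Fin k) (Fin n) (Fin n) A).det * e2
  obtain ⟨⟨c, N, hN⟩, hc⟩ := (IsLocalization.eq_iff_exists (Submonoid.powers r) A').1 h3
  exact ⟨N, by simpa [← hN] using hc⟩

end Groth.Agent.H26HilbChow
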