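import Groth.Agent.H26HilbChow.Graph
import Groth.Agent.H26HilbChow.Coord
import Mathlib.LinearAlgebra.TensorPower.Basic

/-!
# The determinant of a restriction of scalars is the norm of the determinant
-/

set_option autoImplicit false
set_option backward.isDefEq.respectTransparency false

universe u

open scoped TensorProduct

namespace Groth.Agent.H26HilbChow

variable {A B : Type u} [CommRing A] [CommRing B] [Algebra A B] {M : Type u} [AddCommGroup M]
  [Module B M] [Module A M] [IsScalarTower A B M] (n k' : ℕ)

/-- The left-hand element. -/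
noncomputable def detLeft (a : Fin (k' + 1) → Fin n → B) (x : Fin (k' + 1) → M) :
    ⋀[A]^(n * (k' + 1)) M :=
  exteriorPower.ιMulti A (n * (k' + 1))
    ((fun t : Fin n × Fin (k' + 1) => a t.2 t.1 • x t.2) ∘ finProdFinEquiv.symm)

/-- The right-hand element. -/
noncomputable def detRight (a : Fin (k' + 1) → Fin n → B) (x : Fin (k' + 1) → M) :
    (TensorPower A k' (⋀[A]^n B)) ⊗[A] (⋀[A]^n (⋀[B]^(k' + 1) M)) :=
  (PiTensorProduct.tprod A fun i : Fin k' => exteriorPower.ιMulti A n (a i.castSucc)) ⊗ₜ[A]
    exteriorPower.ιMulti A n fun j => a (Fin.last k') j • exteriorPower.ιMulti B (k' + 1) x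

variable (A B M) in
/-- The relation. -/
noncomputable def detRel :
    Submodule A ((⋀[A]^(n * (k' + 1)) M) ×
      ((TensorPower A k' (⋀[A]^n B)) ⊗[A] (⋀[A]^n (⋀[B]^(k' + 1) M)))) :=
  Submodule.span A (Set.range fun y : (Fin (k' + 1) → Fin n → B) × (Fin (k' + 1) → M) =>
    (detLeft n k' y.1 y.2, detRight n k' y.1 y.2))

variable [Module.Finite A B] [Module.Projective A B] [Module.Finite B M] [Module.Projective B M]

theorem det_local
    (hM : ∀ Q : PrimeSpectrum B, Module.finrank (Localization.AtPrime Q.asIdeal)
      (LocalizedModule Q.asIdeal.primeCompl M) = k' + 1)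
    (hn : ∀ q : PrimeSpectrum A, Module.finrank (Localization.AtPrime q.asIdeal)
      (LocalizedModule q.asIdeal.primeCompl B) = n)
    (p : Ideal A) (hp : p.IsPrime) :
    ∃ (a : ⋀[A]^(n * (k' + 1)) M) (b : (TensorPower A k' (⋀[A]^n B)) ⊗[A] (⋀[A]^n (⋀[B]^(k' + 1) M))),
      (a, b) ∈ detRel A B M n k' ∧
      (∀ g ∈ detRel A B M n k', ∃ T ∉ p, ∃ u : A, T • g = u • (a, b)) ∧
      (∀ x : ⋀[A]^(n * (k' + 1)) M, ∃ T ∉ p, ∃ u : A, T • x = u • a) ∧
      (∀ y : (TensorPower A k' (⋀[A]^n B)) ⊗[A] (⋀[A]^n (⋀[B]^(k' + 1) M)),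
        ∃ T ∉ p, ∃ u : A, T • y = u • b) ∧
      (∀ u u' : A, u • a = u' • a → ∃ T ∉ p, T * u = T * u') ∧
      (∀ u u' : A, u • b = u' • b → ∃ T ∉ p, T * u = T * u') := by
  classical
  haveI := hp
  obtain ⟨e, s, hs, g, hge, heg⟩ := exists_basis_near hM p
  obtain ⟨v, r, hr, w, hwv, hvw⟩ := exists_basis_near (A := A) (B := A) (M := B) (k := n) hn p
  let k := k' + 1
  -- coordinates on `B`
  let CB : Coord A B (Fin n) :=
    { z := v, W := w, ρ := r, sum_W := hwv
      W_z := fun i => by
        have h := hvw (Pi.single i 1)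
        rw [show ∑ j, (Pi.single i 1 : Fin n → A) j • v j = v i by
          simp [Pi.single_apply, ite_smul]] at h
        exact h }
  have hwr : ∀ b : B, ∑ m, w b m • v m = r • b := hwv
  have hwv' : ∀ i, w (v i) = r • Pi.single i 1 := CB.W_z
  -- coordinates on `M`
  let CM : Coord A M (Fin n × Fin k) :=
    { z := fun t => v t.1 • e t.2
      W := LinearMap.pi fun t => (LinearMap.proj t.1 ∘ₗ w) ∘ₗ (LinearMap.proj t.2 ∘ₗ g).restrictScalars A
      ρ := r * s
      sum_W := fun y => by
        show ∑ t : Fin n × Fin k, w (g y t.2) t.1 • v t.1 • e t.2 = _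
        rw [Fintype.sum_prod_type_right]
        simp only [← smul_assoc, ← Finset.sum_smul, hwr]
        simp only [smul_assoc, ← Finset.smul_sum]
        rw [hge, smul_smul]
      W_z := fun t => by
        funext t'
        show w (g (v t.1 • e t.2) t'.2) t'.1 = _
        have h := heg (Pi.single t.2 (v t.1))
        rw [show ∑ j, (Pi.single t.2 (v t.1) : Fin k → B) j • e j = v t.1 • e t.2 by
          simp [Pi.single_apply, ite_smul]] at h
        rw [h]
        obtain ⟨m, l⟩ := t
        obtain ⟨m', l'⟩ := t'
        by_cases hl : l' = l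
        · subst hl
          simp only [Pi.smul_apply, Pi.single_eq_same, map_smul, hwv']
          by_cases hm : m' = m
          · subst hm; simp [mul_comm]
          · simp [hm]
        · simp [hl] }
  -- coordinates on `∧ᵏ M`
  let D₀ : ⋀[B]^k M := exteriorPower.ιMulti B k e
  let S : A := s ^ k
  let δB : (⋀[B]^k M) →ₗ[B] B := exteriorPower.alternatingMapLinearEquiv
    ((Matrix.detRowAlternating (R := B) (n := Fin k)).compLinearMap g)
  have hδB : ∀ x : Fin k → M, δB (exteriorPower.ιMulti B k x) = Matrix.det (fun i l => g (x i) l) :=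
    fun x => exteriorPower.alternatingMapLinearEquiv_apply_ιMulti _ _
  have hD : ∀ d : ⋀[B]^k M, δB d • D₀ = S • d := fun d => by
    have hd : d ∈ Submodule.span B (Set.range (exteriorPower.ιMulti B k (M := M))) := by
      rw [exteriorPower.ιMulti_span]; trivial
    induction hd using Submodule.span_induction with
    | mem d hd =>
      obtain ⟨x, rfl⟩ := hd
      have h1 := ιMulti_eq_det (Equiv.refl (Fin k)) (fun i l => g (x i) l) e
        (fun i => algebraMap A B s • x i) fun i => by rw [algebraMap_smul, hge]
      have h2 := (exteriorPower.ιMulti B k (M := M)).toMultilinearMap.map_smul_univ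
        (fun _ => algebraMap A B s) x
      rw [hδB]
      refine h1.symm.trans ?_
      show exteriorPower.ιMulti B k (fun i => algebraMap A B s • x i) = _
      rw [← algebraMap_smul B S, map_pow]
      simpa using h2
    | zero => simp
    | add a b _ _ ha hb => rw [map_add, add_smul, ha, hb, smul_add]
    | smul b d _ hd => rw [map_smul, smul_eq_mul, mul_smul, hd, smul_comm]
  have hδD : δB D₀ = algebraMap A B S := by
    rw [hδB]
    have : (fun i l => g (e i) l) = algebraMap A B s • (1 : Matrix (Fin k) (Fin k) B) := by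
      funext i l
      have h := heg (Pi.single i 1)
      rw [show ∑ j, (Pi.single i 1 : Fin k → B) j • e j = e i by simp [Pi.single_apply, ite_smul]] at h
      rw [h]
      simp [Matrix.one_apply, Pi.single_apply, Algebra.smul_def, eq_comm]
    rw [this, Matrix.det_smul, Matrix.det_one, mul_one, Fintype.card_fin, map_pow]
  let CD : Coord A (⋀[B]^k M) (Fin n) :=
    { z := fun m => v m • D₀
      W := w ∘ₗ δB.restrictScalars A
      ρ := r * S
      sum_W := fun d => by
        show ∑ m, w (δB d) m • v m • D₀ = _
        simp only [← smul_assoc, ← Finset.sum_smul, hwr]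
        rw [smul_assoc, hD, smul_smul]
      W_z := fun m => by
        show w (δB (v m • D₀)) = _
        rw [map_smul, hδD, smul_eq_mul, mul_comm, ← Algebra.smul_def, map_smul, hwv', smul_smul,
          mul_comm] }
  let eM : Fin n × Fin k ≃ Fin (n * k) := finProdFinEquiv
  let Ω : ⋀[A]^(n * k) M := CM.top eM
  let ω : ⋀[A]^n B := CB.top (Equiv.refl (Fin n))
  let Ω' : ⋀[A]^n (⋀[B]^k M) := CD.top (Equiv.refl (Fin n))
  let Z₀ : (TensorPower A k' (⋀[A]^n B)) ⊗[A] (⋀[A]^n (⋀[B]^k M)) :=
    (PiTensorProduct.tprod A fun _ : Fin k' => ω) ⊗ₜ[A] Ω'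
  have hmemp : ∀ a ∈ ({r, s} : Set A), a ∈ p.primeCompl := by
    rintro a (rfl | rfl) <;> assumption
  have hrp : r ∈ p.primeCompl := hmemp r (by simp)
  have hsp : s ∈ p.primeCompl := hmemp s (by simp)
  have hSp : S ∈ p.primeCompl := pow_mem hsp k
  refine ⟨Ω, Z₀, Submodule.subset_span ⟨(fun _ => v, e), rfl⟩, fun q hq => ?_, fun x => ?_, fun y => ?_,
    fun u u' h => ⟨_, pow_mem (mul_mem hrp hsp) (n * k), CM.eq_of_smul_top eM h⟩, fun u u' h => ?_⟩
  · induction hq using Submodule.span_induction with
    | zero => exact ⟨1, p.primeCompl.one_mem, 0, by simp⟩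
    | add a b _ _ ha hb =>
      obtain ⟨T, hT, u, hu⟩ := ha
      obtain ⟨T', hT', u', hu'⟩ := hb
      exact ⟨T' * T, mul_mem (show T' ∈ p.primeCompl from hT') hT, T' * u + T * u', by
        rw [smul_add, mul_smul, hu, mul_smul, smul_comm T' T, hu', add_smul, mul_smul, mul_smul]⟩
    | smul c a _ ha =>
      obtain ⟨T, hT, u, hu⟩ := ha
      exact ⟨T, hT, c * u, by rw [smul_comm, hu, smul_smul]⟩
    | mem q hq =>
      obtain ⟨⟨a, x⟩, rfl⟩ := hq
      let P : Matrix (Fin k) (Fin k) B := fun i l => g (x i) l
      let Mb : B → Matrix (Fin n) (Fin n) A := fun b m' m => w (b * v m') m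
      have hwmul : ∀ b c : B, r • w (b * c) = ∑ m, w c m • w (b * v m) := fun b c => by
        rw [← map_smul, ← mul_smul_comm, ← hwr, Finset.mul_sum, map_sum]
        simp only [mul_smul_comm, map_smul]
      obtain ⟨N, hN⟩ := exists_det_comp r Mb (fun b c => by
          funext i j; simp [Mb, add_mul])
        (by
          funext i j
          simp [Mb, hwv', Matrix.one_apply, Pi.single_apply, eq_comm])
        (fun b c => by
          funext i j
          simp only [Matrix.mul_apply, Matrix.smul_apply, Mb]
          rw [show b * c * v i = c * (b * v i) by ring]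
          have := congrFun (hwmul c (b * v i)) j
          simpa [Finset.sum_apply] using this.symm) P
      let C : Fin k → Matrix (Fin n) (Fin n) A := fun i j m => w (a i j) m
      let PC : A := ∏ i, (C i).det
      -- the left-hand side
      let X : Matrix (Fin n × Fin k) (Fin n × Fin k) A := fun t t' => CM.W (a t.2 t.1 • x t.2) t'
      have hL : (r * s) ^ (n * k) • detLeft n k' a x = X.det • Ω :=
        CM.smul_ιMulti eM fun t => a t.2 t.1 • x t.2
      let Z : Matrix (Fin k × Fin n) (Fin k × Fin n) A := (P.map Mb).comp (Fin k) (Fin k) (Fin n) (Fin n) A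
      have hX : r ^ (n * k) * X.det = PC * Z.det := by
        have h : r • X = Matrix.blockDiagonal C * Z.submatrix Prod.swap Prod.swap := by
          ext ⟨j, i⟩ ⟨m, l⟩
          show r • w (g (a i j • x i) l) m = _
          simp only [map_smul, Pi.smul_apply, smul_eq_mul]
          rw [mul_comm (a i j) (g (x i) l), show r * w (g (x i) l * a i j) m = (r • w (g (x i) l * a i j)) m from rfl, hwmul,
            Matrix.mul_apply, Fintype.sum_prod_type]
          simp only [Finset.sum_apply, Pi.smul_apply, smul_eq_mul, Matrix.blockDiagonal_apply, ite_mul,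
            zero_mul, Finset.sum_ite_eq, Finset.mem_univ, if_true]
          rfl
        have h2 := congrArg Matrix.det h
        rw [Matrix.det_smul, Fintype.card_prod, Fintype.card_fin, Fintype.card_fin, Matrix.det_mul,
          Matrix.det_blockDiagonal, show Z.submatrix Prod.swap Prod.swap =
            Z.submatrix (Equiv.prodComm _ _) (Equiv.prodComm _ _) from rfl,
          Matrix.det_submatrix_equiv_self] at h2
        exact h2
      -- the right-hand side
      let X' : Matrix (Fin n) (Fin n) A := fun j m =>
        CD.W (a (Fin.last k') j • exteriorPower.ιMulti B k x) m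
      have hX' : r ^ n * X'.det = (C (Fin.last k')).det * (Mb P.det).det := by
        have h : r • X' = C (Fin.last k') * Mb P.det := by
          ext j m
          show r • w (δB (a (Fin.last k') j • exteriorPower.ιMulti B k x)) m = _
          rw [map_smul, hδB]
          simp only [smul_eq_mul]
          rw [mul_comm (a _ j), show ∀ z : B, r * w z m = (r • w z) m from fun z => rfl, hwmul, Matrix.mul_apply]
          simp only [Finset.sum_apply, Pi.smul_apply, smul_eq_mul]
          rfl
        have h2 := congrArg Matrix.det h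
        rw [Matrix.det_smul, Fintype.card_fin, Matrix.det_mul] at h2
        exact h2
      have hR : ((r ^ n) ^ k' * (r * S) ^ n) • detRight n k' a x =
          ((∏ i : Fin k', (C i.castSucc).det) * X'.det) • Z₀ := by
        rw [detRight, ← TensorProduct.smul_tmul_smul, ← TensorProduct.smul_tmul_smul]
        congr 1
        · have h3 : (fun i : Fin k' => r ^ n • exteriorPower.ιMulti A n (a i.castSucc)) =
              fun i : Fin k' => (C i.castSucc).det • ω :=
            funext fun i => CB.smul_ιMulti (Equiv.refl (Fin n)) (a i.castSucc)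
          have h4 := congrArg (PiTensorProduct.tprod A) h3
          rw [MultilinearMap.map_smul_univ, MultilinearMap.map_smul_univ, Finset.prod_const,
            Finset.card_univ, Fintype.card_fin] at h4
          exact h4
        · exact CD.smul_ιMulti (Equiv.refl (Fin n))
            fun j => a (Fin.last k') j • exteriorPower.ιMulti B k x
      have hPC : (∏ i : Fin k', (C i.castSucc).det) * (C (Fin.last k')).det = PC :=
        (Fin.prod_univ_castSucc fun i => (C i).det).symm
      refine ⟨(r * s) ^ (n * k) * r ^ (n * k) * (r ^ n * r ^ N), ?_, PC * Z.det * (r ^ n * r ^ N), ?_⟩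
      · exact mul_mem (mul_mem (pow_mem (mul_mem hrp hsp) _) (pow_mem hrp _))
          (mul_mem (pow_mem hrp _) (pow_mem hrp _))
      · refine Prod.ext ?_ ?_
        · show _ • detLeft n k' a x = _ • Ω
          rw [show (r * s) ^ (n * k) * r ^ (n * k) * (r ^ n * r ^ N) =
            (r ^ (n * k) * (r ^ n * r ^ N)) * (r * s) ^ (n * k) by ring, mul_smul, hL, smul_smul]
          congr 1
          linear_combination (r ^ n * r ^ N) * hX
        · show _ • detRight n k' a x = _ • Z₀
          have e1 : (r * s) ^ (n * k) * r ^ (n * k) * (r ^ n * r ^ N) =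
              (r ^ n * r ^ (n * k) * r ^ N) * ((r ^ n) ^ k' * (r * S) ^ n) := by
            simp only [S, k, ← pow_mul, mul_pow]
            ring
          rw [e1, mul_smul, hR, smul_smul]
          congr 1
          linear_combination
            ((∏ i : Fin k', (C i.castSucc).det) * (r ^ (n * k) * r ^ N)) * hX' +
            (PC : A) * hN + (Mb P.det).det * (r ^ (n * k) * r ^ N) * hPC
  · obtain ⟨u, hu⟩ := CM.exists_smul_eq eM x
    exact ⟨_, pow_mem (mul_mem hrp hsp) (n * k), u, hu⟩
  · induction y using TensorProduct.induction_on with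
    | zero => exact ⟨1, p.primeCompl.one_mem, 0, by simp⟩
    | add a b ha hb =>
      obtain ⟨T, hT, u, hu⟩ := ha
      obtain ⟨T', hT', u', hu'⟩ := hb
      exact ⟨T' * T, mul_mem (show T' ∈ p.primeCompl from hT') hT, T' * u + T * u', by
        rw [smul_add, mul_smul, hu, mul_smul, smul_comm T' T, hu', add_smul, mul_smul, mul_smul]⟩
    | tmul c d =>
      obtain ⟨T, hT, u, hu⟩ : ∃ T ∈ p.primeCompl, ∃ u : A,
          T • c = u • PiTensorProduct.tprod A fun _ : Fin k' => ω := by
        induction c using PiTensorProduct.induction_on with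
        | smul_tprod t f =>
          choose u hu using fun i => CB.exists_smul_eq (Equiv.refl (Fin n)) (f i)
          refine ⟨(r ^ n) ^ k', pow_mem (pow_mem hrp n) k', t * ∏ i, u i, ?_⟩
          have h4 := congrArg (PiTensorProduct.tprod A) (funext hu)
          rw [MultilinearMap.map_smul_univ, MultilinearMap.map_smul_univ, Finset.prod_const,
            Finset.card_univ, Fintype.card_fin] at h4
          rw [smul_comm, h4, smul_smul]
        | add a b ha hb =>
          obtain ⟨T, hT, u, hu⟩ := ha
          obtain ⟨T', hT', u', hu'⟩ := hb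
          exact ⟨T' * T, mul_mem hT' hT, T' * u + T * u', by
            rw [smul_add, mul_smul, hu, mul_smul, smul_comm T' T, hu', add_smul, mul_smul, mul_smul]⟩
      obtain ⟨u', hu'⟩ := CD.exists_smul_eq (Equiv.refl (Fin n)) d
      exact ⟨T * (r * S) ^ n, mul_mem hT (pow_mem (mul_mem hrp hSp) n), u * u', by
        rw [← TensorProduct.smul_tmul_smul, hu, hu', TensorProduct.smul_tmul_smul]⟩
  · let ν : (TensorPower A k' (⋀[A]^n B)) ⊗[A] (⋀[A]^n (⋀[B]^k M)) →ₗ[A] A :=
      LinearMap.mul' A A ∘ₗ TensorProduct.map
        (PiTensorProduct.lift ((MultilinearMap.mkPiAlgebra A (Fin k') A).compLinearMap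
          fun _ => CB.δ (Equiv.refl (Fin n)))) (CD.δ (Equiv.refl (Fin n)))
    have hν : ν Z₀ = (r ^ n) ^ k' * (r * S) ^ n := by
      show LinearMap.mul' A A (TensorProduct.map _ _ ((PiTensorProduct.tprod A fun _ => ω) ⊗ₜ[A] Ω')) = _
      rw [TensorProduct.map_tmul, LinearMap.mul'_apply, PiTensorProduct.lift.tprod,
        MultilinearMap.compLinearMap_apply, MultilinearMap.mkPiAlgebra_apply]
      show (∏ _i : Fin k', CB.δ _ (CB.top _)) * CD.δ _ (CD.top _) = _
      rw [Coord.δ_top, Coord.δ_top, Finset.prod_const, Finset.card_univ, Fintype.card_fin]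
    refine ⟨(r ^ n) ^ k' * (r * S) ^ n, mul_mem (pow_mem (pow_mem hrp n) k')
      (pow_mem (mul_mem hrp hSp) n), ?_⟩
    have h2 := congrArg ν h
    rw [map_smul, map_smul, hν, smul_eq_mul, smul_eq_mul] at h2
    linear_combination h2

/-- The determinant of the restriction of scalars. -/
theorem nonempty_det_restrict
    (hM : ∀ Q : PrimeSpectrum B, Module.finrank (Localization.AtPrime Q.asIdeal)
      (LocalizedModule Q.asIdeal.primeCompl M) = k' + 1)
    (hn : ∀ q : PrimeSpectrum A, Module.finrank (Localization.AtPrime q.asIdeal)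
      (LocalizedModule q.asIdeal.primeCompl B) = n) :
    Nonempty ((⋀[A]^(n * (k' + 1)) M) ≃ₗ[A]
      (TensorPower A k' (⋀[A]^n B)) ⊗[A] (⋀[A]^n (⋀[B]^(k' + 1) M))) :=
  nonempty_equiv_of_local (detRel A B M n k') fun p hp => det_local n k' hM hn p hp

end Groth.Agent.H26HilbChow
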