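import Groth.Agent.H26HilbChow.Norm

/-!
# Isomorphisms from relations which are locally graphs of generators
-/

set_option autoImplicit false

universe u

namespace Groth.Agent.H26HilbChow

variable {A : Type u} [CommRing A]

/-- A relation which, near every prime, is spanned up to scalars by one pair of free generators is
the graph of an isomorphism. -/
theorem nonempty_equiv_of_local {X Y : Type u} [AddCommMonoid X] [Module A X] [AddCommMonoid Y]
    [Module A Y] (G : Submodule A (X × Y))
    (h : ∀ p : Ideal A, p.IsPrime → ∃ (a : X) (b : Y), (a, b) ∈ G ∧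
      (∀ g ∈ G, ∃ T ∉ p, ∃ u : A, T • g = u • (a, b)) ∧
      (∀ x : X, ∃ T ∉ p, ∃ u : A, T • x = u • a) ∧ (∀ y : Y, ∃ T ∉ p, ∃ u : A, T • y = u • b) ∧
      (∀ u u' : A, u • a = u' • a → ∃ T ∉ p, T * u = T * u') ∧
      (∀ u u' : A, u • b = u' • b → ∃ T ∉ p, T * u = T * u')) :
    Nonempty (X ≃ₗ[A] Y) := by
  let π₁ := (LinearMap.fst A X Y).domRestrict G
  let π₂ := (LinearMap.snd A X Y).domRestrict G
  have hb₁ : Function.Bijective π₁ := by
    refine ⟨fun c d hcd => ?_, fun x => ?_⟩
    · suffices h0 : c.1.2 = d.1.2 from Subtype.ext (Prod.ext hcd h0)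
      refine eq_of_forall_prime (A := A) _ _ fun p hp => ?_
      obtain ⟨a, b, -, hg, -, -, ha, -⟩ := h p hp
      obtain ⟨T, hT, u, hu⟩ := hg _ c.2
      obtain ⟨T', hT', u', hu'⟩ := hg _ d.2
      have h1 : (T' * u) • a = (T * u') • a := by
        rw [mul_smul, mul_smul, show u • a = T • c.1.1 from (congrArg Prod.fst hu).symm,
          show u' • a = T' • d.1.1 from (congrArg Prod.fst hu').symm, smul_comm T' T,
          show c.1.1 = d.1.1 from hcd]
      obtain ⟨S, hS, hSu⟩ := ha _ _ h1
      refine ⟨S * (T * T'), fun hh => ?_, ?_⟩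
      · rcases hp.mem_or_mem hh with hh | hh
        · exact hS hh
        · exact (hp.mem_or_mem hh).elim hT hT'
      · rw [mul_smul, mul_smul, mul_smul, mul_smul, smul_comm T T' c.1.2,
          show T • c.1.2 = u • b from congrArg Prod.snd hu,
          show T' • d.1.2 = u' • b from congrArg Prod.snd hu', smul_smul, smul_smul, smul_smul, smul_smul,
          mul_assoc S T' u, mul_assoc S T u', hSu]
    · obtain ⟨g, hg, hgy⟩ : x ∈ G.map (LinearMap.fst A X Y) := by
        refine mem_of_forall_prime' _ x fun p hp => ?_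
        obtain ⟨a, b, hab, -, hx, -, -, -⟩ := h p hp
        obtain ⟨T, hT, u, hu⟩ := hx x
        exact ⟨T, hT, hu ▸ Submodule.smul_mem _ u ⟨(a, b), hab, rfl⟩⟩
      exact ⟨⟨g, hg⟩, hgy⟩
  have hb₂ : Function.Bijective π₂ := by
    refine ⟨fun c d hcd => ?_, fun y => ?_⟩
    · suffices h0 : c.1.1 = d.1.1 from Subtype.ext (Prod.ext h0 hcd)
      refine eq_of_forall_prime (A := A) _ _ fun p hp => ?_
      obtain ⟨a, b, -, hg, -, -, -, hb⟩ := h p hp
      obtain ⟨T, hT, u, hu⟩ := hg _ c.2
      obtain ⟨T', hT', u', hu'⟩ := hg _ d.2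
      have h1 : (T' * u) • b = (T * u') • b := by
        rw [mul_smul, mul_smul, show u • b = T • c.1.2 from (congrArg Prod.snd hu).symm,
          show u' • b = T' • d.1.2 from (congrArg Prod.snd hu').symm, smul_comm T' T,
          show c.1.2 = d.1.2 from hcd]
      obtain ⟨S, hS, hSu⟩ := hb _ _ h1
      refine ⟨S * (T * T'), fun hh => ?_, ?_⟩
      · rcases hp.mem_or_mem hh with hh | hh
        · exact hS hh
        · exact (hp.mem_or_mem hh).elim hT hT'
      · rw [mul_smul, mul_smul, mul_smul, mul_smul, smul_comm T T' c.1.1,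
          show T • c.1.1 = u • a from congrArg Prod.fst hu,
          show T' • d.1.1 = u' • a from congrArg Prod.fst hu', smul_smul, smul_smul, smul_smul, smul_smul,
          mul_assoc S T' u, mul_assoc S T u', hSu]
    · obtain ⟨g, hg, hgy⟩ : y ∈ G.map (LinearMap.snd A X Y) := by
        refine mem_of_forall_prime' _ y fun p hp => ?_
        obtain ⟨a, b, hab, -, -, hy, -, -⟩ := h p hp
        obtain ⟨T, hT, u, hu⟩ := hy y
        exact ⟨T, hT, hu ▸ Submodule.smul_mem _ u ⟨(a, b), hab, rfl⟩⟩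
      exact ⟨⟨g, hg⟩, hgy⟩
  exact ⟨(LinearEquiv.ofBijective π₁ hb₁).symm.trans (LinearEquiv.ofBijective π₂ hb₂)⟩
where
  mem_of_forall_prime' {Z : Type u} [AddCommMonoid Z] [Module A Z] (N : Submodule A Z) (y : Z)
      (h : ∀ p : Ideal A, p.IsPrime → ∃ s ∉ p, s • y ∈ N) : y ∈ N := by
    let J : Ideal A := N.comap (LinearMap.toSpanSingleton A Z y)
    have hJ : J = ⊤ := by
      by_contra hne
      obtain ⟨m, hm, hle⟩ := Ideal.exists_le_maximal J hne
      obtain ⟨s, hs, hsy⟩ := h m hm.isPrime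
      exact hs (hle hsy)
    have h1 : (1 : A) ∈ J := by rw [hJ]; trivial
    simpa [J] using h1

end Groth.Agent.H26HilbChow
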