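import Groth.Agent.H26HilbChow.SemilocalGen
import Mathlib.LinearAlgebra.ExteriorPower.Basic
import Mathlib.RingTheory.TensorProduct.Basic

/-!
# The norm is multiplicative

For `B` finite locally free of rank `n` over `A` and invertible `B`-modules `M₁`, `M₂`, the relation
spanned by `(m ⊗ ∧(·x) c, c ⊗ ∧(⊗x) m)` is the graph of an isomorphism
`∧ⁿM₁ ⊗ ∧ⁿM₂ ≅ ∧ⁿB ⊗ ∧ⁿ(M₁ ⊗ M₂)`.
-/

set_option autoImplicit false

set_option backward.isDefEq.respectTransparency false

universe u

open scoped TensorProduct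

namespace Groth.Agent.H26HilbChow

variable {A : Type u} [CommRing A]

theorem mem_of_forall_prime {X : Type*} [AddCommGroup X] [Module A X] (N : Submodule A X) (y : X)
    (h : ∀ p : Ideal A, p.IsPrime → ∃ s ∉ p, s • y ∈ N) : y ∈ N := by
  let J : Ideal A := N.comap (LinearMap.toSpanSingleton A X y)
  have hJ : J = ⊤ := by
    by_contra hne
    obtain ⟨m, hm, hle⟩ := Ideal.exists_le_maximal J hne
    obtain ⟨s, hs, hsy⟩ := h m hm.isPrime
    exact hs (hle hsy)
  have h1 : (1 : A) ∈ J := by rw [hJ]; trivial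
  simpa [J] using h1

theorem eq_of_forall_prime {X : Type*} [AddCommMonoid X] [Module A X] (y z : X)
    (h : ∀ p : Ideal A, p.IsPrime → ∃ s ∉ p, s • y = s • z) : y = z := by
  let J : Ideal A := LinearMap.eqLocus (LinearMap.toSpanSingleton A X y) (LinearMap.toSpanSingleton A X z)
  have hJ : J = ⊤ := by
    by_contra hne
    obtain ⟨m, hm, hle⟩ := Ideal.exists_le_maximal J hne
    obtain ⟨s, hs, hsy⟩ := h m hm.isPrime
    exact hs (hle hsy)
  have h1 : (1 : A) ∈ J := by rw [hJ]; trivial
  simpa [J] using h1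

theorem map_smul_id {X : Type u} [AddCommGroup X] [Module A X] (n : ℕ) (r : A) :
    exteriorPower.map n (r • LinearMap.id (R := A) (M := X)) = r ^ n • LinearMap.id := by
  refine exteriorPower.linearMap_ext (AlternatingMap.ext fun a => ?_)
  simp only [LinearMap.compAlternatingMap_apply, exteriorPower.map_apply_ιMulti, LinearMap.smul_apply,
    LinearMap.id_apply]
  have := (exteriorPower.ιMulti A n (M := X)).toMultilinearMap.map_smul_univ (fun _ => r) a
  simpa [Function.comp_def] using this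

theorem map_comp_eq_smul {X Y : Type u} [AddCommGroup X] [Module A X] [AddCommGroup Y] [Module A Y]
    (n : ℕ) (r : A) (f : X →ₗ[A] Y) (g : Y →ₗ[A] X) (h : g ∘ₗ f = r • LinearMap.id) (x : ⋀[A]^n X) :
    exteriorPower.map n g (exteriorPower.map n f x) = r ^ n • x := by
  rw [← LinearMap.comp_apply, ← exteriorPower.map_comp, h, map_smul_id]
  rfl

/-- Up to a power of `s`, a top exterior power spanned up to `s` by `n` elements is cyclic. -/
theorem exists_cyclic {B : Type u} [AddCommGroup B] [Module A B] (n : ℕ) (v : Fin n → B) (s : A)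
    (hv : ∀ b : B, s • b ∈ Submodule.span A (Set.range v)) :
    ∃ ω : ⋀[A]^n B, ∀ c : ⋀[A]^n B, ∃ a : A, s ^ n • c = a • ω := by
  refine ⟨exteriorPower.ιMulti A n v, fun c => ?_⟩
  suffices s ^ n • c ∈ Submodule.span A ({exteriorPower.ιMulti A n v} : Set (⋀[A]^n B)) by
    obtain ⟨a, ha⟩ := Submodule.mem_span_singleton.1 this
    exact ⟨a, ha.symm⟩
  let V : (Fin n → A) →ₗ[A] B := Fintype.linearCombination A v
  let e : Fin n → (Fin n → A) := fun i => Pi.single i 1
  have he : Submodule.span A (Set.range e) = ⊤ := by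
    rw [← (Pi.basisFun A (Fin n)).span_eq]
    congr 1
    ext i
    simp [e]
  have hVe : V ∘ e = v := by
    funext i
    simp [V, e, Fintype.linearCombination_apply, Pi.single_apply, ite_smul]
  have hgen : ∀ w : ⋀[A]^n (Fin n → A),
      w ∈ Submodule.span A ({exteriorPower.ιMulti A n e} : Set (⋀[A]^n (Fin n → A))) := fun w => by
    have h1 : w ∈ (⊤ : Submodule A (⋀[A]^n (Fin n → A))) := trivial
    rw [← exteriorPower.ιMulti_family_span_of_span (R := A) (n := n) he] at h1
    refine Submodule.span_le.2 ?_ h1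
    rintro _ ⟨σ, rfl⟩
    refine Submodule.subset_span ?_
    rw [Set.mem_singleton_iff]
    show exteriorPower.ιMulti A n _ = _
    congr 1
    funext i
    show e _ = e i
    congr 1
    have hmono := Finset.orderEmbOfFin_unique' (s := (σ : Finset (Fin n))) σ.2
      (f := OrderEmbedding.ofStrictMono id strictMono_id) (fun j => by
        have : (σ : Finset (Fin n)) = Finset.univ := Finset.eq_univ_of_card _ (by simpa using σ.2)
        simp [this])
    exact (DFunLike.congr_fun hmono i).symm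
  have hc : c ∈ Submodule.span A (Set.range (exteriorPower.ιMulti A n (M := B))) := by
    rw [exteriorPower.ιMulti_span]; trivial
  induction hc using Submodule.span_induction with
  | mem x hx =>
    obtain ⟨a, rfl⟩ := hx
    have hy : ∀ i, ∃ y : Fin n → A, V y = s • a i := fun i => by
      have := hv (a i)
      rwa [← Fintype.range_linearCombination] at this
    choose y hy using hy
    have h1 : s ^ n • exteriorPower.ιMulti A n a = exteriorPower.map n V (exteriorPower.ιMulti A n y) := by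
      rw [exteriorPower.map_apply_ιMulti, show V ∘ y = fun i => s • a i from funext hy]
      have := (exteriorPower.ιMulti A n (M := B)).toMultilinearMap.map_smul_univ (fun _ => s) a
      simpa using this.symm
    rw [h1]
    obtain ⟨r, hr⟩ := Submodule.mem_span_singleton.1 (hgen (exteriorPower.ιMulti A n y))
    rw [← hr, map_smul, exteriorPower.map_apply_ιMulti, hVe]
    exact Submodule.smul_mem _ r (Submodule.mem_span_singleton_self _)
  | zero => simp
  | add x y _ _ hx hy => rw [smul_add]; exact add_mem hx hy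
  | smul r x _ hx => rw [smul_comm]; exact Submodule.smul_mem _ r hx

theorem map_smul_hom {X Y : Type u} [AddCommGroup X] [Module A X] [AddCommGroup Y] [Module A Y]
    (n : ℕ) (r : A) (f : X →ₗ[A] Y) (x : ⋀[A]^n X) :
    exteriorPower.map n (r • f) x = r ^ n • exteriorPower.map n f x := by
  have h : r • f = (r • LinearMap.id) ∘ₗ f := rfl
  rw [h, exteriorPower.map_comp, LinearMap.comp_apply, map_smul_id]
  rfl

/-- On a module cyclic up to `σ`, endomorphisms commute past tensors up to `σ ^ 3`. -/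
theorem tmul_endo_comm {L : Type u} [AddCommGroup L] [Module A L] (σ : A) (ω : L)
    (h : ∀ c : L, ∃ a : A, σ • c = a • ω) (β : L →ₗ[A] L) (c c' : L) :
    σ ^ 3 • (c ⊗ₜ[A] β c') = σ ^ 3 • (c' ⊗ₜ[A] β c) := by
  obtain ⟨p, hp⟩ := h c
  obtain ⟨q, hq⟩ := h c'
  obtain ⟨r, hr⟩ := h (β ω)
  have key : ∀ (x y : L) (a b : A), σ • x = a • ω → σ • y = b • ω →
      σ ^ 3 • (x ⊗ₜ[A] β y) = (a * (b * r)) • (ω ⊗ₜ[A] ω) := fun x y a b hx hy => by
    have h2 : (σ * σ) • β y = (b * r) • ω := by
      rw [mul_smul, ← map_smul β σ y, hy, map_smul, smul_comm, hr, smul_smul]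
    rw [show σ ^ 3 = σ * (σ * σ) by ring, mul_smul, ← TensorProduct.tmul_smul, TensorProduct.smul_tmul', hx, h2,
      TensorProduct.smul_tmul_smul]
  rw [key c c' p q hp hq, key c' c q p hq hp]
  congr 1
  ring

section

variable {B : Type u} [CommRing B] [Algebra A B]

/-- `g` inverts `φ` up to the scalar `r`. -/
structure QInv {X Y : Type u} [AddCommGroup X] [Module B X] [Module A X] [AddCommGroup Y] [Module B Y]
    [Module A Y] (φ : X →ₗ[B] Y) (r : A) where
  /-- The inverse. -/
  inv : Y →ₗ[B] X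
  left : ∀ x, inv (φ x) = r • x
  right : ∀ y, φ (inv y) = r • y

variable {M : Type u} [AddCommGroup M] [Module B M] [Module A M] [IsScalarTower A B M]

/-- `b ↦ b • e` restricted to `A`. -/
noncomputable abbrev mulBy (e : M) : B →ₗ[A] M := (LinearMap.toSpanSingleton B M e).restrictScalars A

theorem exists_qinv (e : M) (s : A) (hs : ∀ m : M, ∃ b : B, b • e = s • m)
    (hk : ∀ b : B, b • e = 0 → s • b = 0) :
    Nonempty (QInv (LinearMap.toSpanSingleton B M e) (s * s)) := by
  choose g hg using hs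
  have huniq : ∀ (m : M) (b : B), b • e = s • m → s • g m = s • b := fun m b hb => by
    rw [← sub_eq_zero, ← smul_sub]
    exact hk _ (by rw [sub_smul, hg, hb, sub_self])
  refine ⟨⟨
      { toFun := fun m => s • g m
        map_add' := fun m m' => by
          rw [huniq (m + m') (g m + g m') (by rw [add_smul, hg, hg, smul_add]), smul_add]
        map_smul' := fun b m => by
          simp only [RingHom.id_apply]
          rw [huniq (b • m) (b * g m) (by rw [mul_smul, hg, smul_comm]), ← smul_comm]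
          rfl }, fun b => ?_, fun m => ?_⟩⟩
  · show s • g (b • e) = (s * s) • b
    rw [huniq (b • e) (s • b) (smul_assoc s b e), smul_smul]
  · show (s • g m) • e = (s * s) • m
    rw [smul_assoc, hg, smul_smul]

theorem qinv_map_left {φ : B →ₗ[B] M} {r : A} (q : QInv φ r) (n : ℕ) (c : ⋀[A]^n B) :
    exteriorPower.map n (q.inv.restrictScalars A) (exteriorPower.map n (φ.restrictScalars A) c) =
      r ^ n • c :=
  map_comp_eq_smul n r (φ.restrictScalars A) (q.inv.restrictScalars A)
    (LinearMap.ext q.left) c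

theorem qinv_map_right {φ : B →ₗ[B] M} {r : A} (q : QInv φ r) (n : ℕ) (m : ⋀[A]^n M) :
    exteriorPower.map n (φ.restrictScalars A) (exteriorPower.map n (q.inv.restrictScalars A) m) =
      r ^ n • m :=
  map_comp_eq_smul n r (q.inv.restrictScalars A) (φ.restrictScalars A)
    (LinearMap.ext q.right) m

end

variable {B : Type u} [CommRing B] [Algebra A B] {M₁ M₂ : Type u}
  [AddCommGroup M₁] [Module B M₁] [Module A M₁] [IsScalarTower A B M₁]
  [AddCommGroup M₂] [Module B M₂] [Module A M₂] [IsScalarTower A B M₂]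

/-- `m ↦ m ⊗ x`. -/
noncomputable abbrev tenBy (x : M₂) : M₁ →ₗ[A] M₁ ⊗[B] M₂ :=
  ((TensorProduct.mk B M₁ M₂).flip x).restrictScalars A

variable (A B M₁ M₂) in
/-- The relation. -/
noncomputable def normRel (n : ℕ) :
    Submodule A (((⋀[A]^n M₁) ⊗[A] (⋀[A]^n M₂)) × ((⋀[A]^n B) ⊗[A] (⋀[A]^n (M₁ ⊗[B] M₂)))) :=
  Submodule.span A (Set.range fun y : (⋀[A]^n M₁) × (⋀[A]^n B) × M₂ =>
    (y.1 ⊗ₜ[A] exteriorPower.map n (mulBy (A := A) (B := B) y.2.2) y.2.1,
      y.2.1 ⊗ₜ[A] exteriorPower.map n (tenBy (A := A) (B := B) y.2.2) y.1))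

variable [Module.Finite A B] [Module.Projective A B] [Module.Finite B M₁] [Module.Projective B M₁]
  [Module.Finite B M₂] [Module.Projective B M₂]

/-- The local picture of the relation. -/
theorem exists_local (n : ℕ)
    (h₁ : ∀ Q : PrimeSpectrum B, Module.finrank (Localization.AtPrime Q.asIdeal)
      (LocalizedModule Q.asIdeal.primeCompl M₁) = 1)
    (h₂ : ∀ Q : PrimeSpectrum B, Module.finrank (Localization.AtPrime Q.asIdeal)
      (LocalizedModule Q.asIdeal.primeCompl M₂) = 1)
    (p : Ideal A) [p.IsPrime]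
    (hp : Module.finrank (Localization.AtPrime p) (LocalizedModule p.primeCompl B) = n) :
    ∃ (T : A) (J₁ : (⋀[A]^n B) ⊗[A] (⋀[A]^n B) →ₗ[A] (⋀[A]^n M₁) ⊗[A] (⋀[A]^n M₂))
      (J₂ : (⋀[A]^n B) ⊗[A] (⋀[A]^n B) →ₗ[A] (⋀[A]^n B) ⊗[A] (⋀[A]^n (M₁ ⊗[B] M₂))),
      T ∉ p ∧
      (∀ g ∈ normRel A B M₁ M₂ n, ∃ z, T • g = (J₁ z, J₂ z)) ∧
      (∀ z w, J₁ z = J₁ w → T • z = T • w) ∧ (∀ z w, J₂ z = J₂ w → T • z = T • w) ∧
      (∀ y, ∃ z, T • y = J₁ z) ∧ (∀ y, ∃ z, T • y = J₂ z) ∧
      (∀ z, (J₁ z, J₂ z) ∈ normRel A B M₁ M₂ n) := by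
  obtain ⟨e, s₁, hs₁, he, hek⟩ := exists_gen h₁ p
  obtain ⟨f, s₂, hs₂, hf, hfk⟩ := exists_gen h₂ p
  obtain ⟨v, s₀, hs₀, hv⟩ := exists_span_of_finrank n p hp
  obtain ⟨ω, hω⟩ := exists_cyclic n v s₀ hv
  obtain ⟨qe⟩ := exists_qinv e s₁ he hek
  obtain ⟨qf⟩ := exists_qinv f s₂ hf hfk
  let re : A := s₁ * s₁
  let rf : A := s₂ * s₂
  let φ₁₂ : B →ₗ[B] M₁ ⊗[B] M₂ := LinearMap.toSpanSingleton B _ (e ⊗ₜ[B] f)
  let q₁₂ : QInv φ₁₂ (re * rf) :=
    { inv := LinearMap.mul' B B ∘ₗ TensorProduct.map qe.inv qf.inv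
      left := fun b => by
        show LinearMap.mul' B B (TensorProduct.map qe.inv qf.inv (b • (e ⊗ₜ[B] f))) = _
        rw [TensorProduct.smul_tmul', TensorProduct.map_tmul, LinearMap.mul'_apply]
        have h1 : qe.inv (b • e) = re • b := qe.left b
        have h2 : qf.inv f = rf • (1 : B) := by simpa using qf.left 1
        rw [h1, h2, smul_mul_smul_comm, mul_one]
      right := fun y => by
        induction y using TensorProduct.induction_on with
        | zero => simp
        | add a c ha hc =>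
          simp only [LinearMap.comp_apply] at ha hc ⊢
          rw [map_add, map_add, map_add, ha, hc, smul_add]
        | tmul m k =>
          show (LinearMap.mul' B B (TensorProduct.map qe.inv qf.inv (m ⊗ₜ[B] k))) • (e ⊗ₜ[B] f) = _
          rw [TensorProduct.map_tmul, LinearMap.mul'_apply, ← TensorProduct.smul_tmul_smul]
          have h1 : qe.inv m • e = re • m := qe.right m
          have h2 : qf.inv k • f = rf • k := qf.right k
          rw [h1, h2, ← TensorProduct.smul_tmul', ← algebraMap_smul B rf k, TensorProduct.tmul_smul,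
            algebraMap_smul, smul_smul] }
  let E := exteriorPower.map n (mulBy (A := A) (B := B) e)
  let F := exteriorPower.map n (mulBy (A := A) (B := B) f)
  let H := exteriorPower.map n (φ₁₂.restrictScalars A)
  let J₁ := TensorProduct.map E F
  let J₂ := TensorProduct.map (LinearMap.id : (⋀[A]^n B) →ₗ[A] _) H ∘ₗ
    (TensorProduct.comm A (⋀[A]^n B) (⋀[A]^n B)).toLinearMap
  let t : A := re ^ n * rf ^ n
  let σ : A := (s₀ ^ n) ^ 3
  let T : A := t * s₂ ^ n * σ
  have hT : T ∉ p := by
    have : ∀ a ∈ ({s₀, s₁, s₂} : Set A), a ∈ p.primeCompl := by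
      rintro a (rfl | rfl | rfl) <;> assumption
    exact mul_mem (mul_mem (mul_mem (pow_mem (mul_mem (this s₁ (by simp)) (this s₁ (by simp))) n)
      (pow_mem (mul_mem (this s₂ (by simp)) (this s₂ (by simp))) n)) (pow_mem (this s₂ (by simp)) n))
      (pow_mem (pow_mem (this s₀ (by simp)) n) 3)
  have hH : ∀ c, exteriorPower.map n (tenBy (A := A) (B := B) f) (E c) =
      (H c : ⋀[A]^n (M₁ ⊗[B] M₂)) := fun c => by
    show exteriorPower.map n _ (exteriorPower.map n _ c) = exteriorPower.map n _ c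
    rw [← LinearMap.comp_apply, ← exteriorPower.map_comp]
    rfl
  have hz : ∀ z, (J₁ z, J₂ z) ∈ normRel A B M₁ M₂ n := by
    intro z
    induction z using TensorProduct.induction_on with
    | zero => rw [map_zero, map_zero]; exact zero_mem _
    | add a b ha hb =>
      rw [map_add, map_add]
      exact (normRel A B M₁ M₂ n).add_mem ha hb
    | tmul c d =>
      refine Submodule.subset_span ⟨(E c, d, f), Prod.ext rfl ?_⟩
      show d ⊗ₜ[A] exteriorPower.map n _ (E c) = d ⊗ₜ[A] H c
      rw [hH]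
  have hgen : ∀ g ∈ normRel A B M₁ M₂ n, ∃ z, T • g = (J₁ z, J₂ z) := by
    intro g hg
    induction hg using Submodule.span_induction with
    | zero => exact ⟨0, by simp; rfl⟩
    | add a b _ _ ha hb =>
      obtain ⟨u, hu⟩ := ha
      obtain ⟨w, hw⟩ := hb
      exact ⟨u + w, by rw [smul_add, hu, hw, map_add, map_add]; rfl⟩
    | smul a b _ hb =>
      obtain ⟨u, hu⟩ := hb
      exact ⟨a • u, by rw [smul_comm, hu, map_smul, map_smul]; rfl⟩
    | mem g hg =>
      obtain ⟨⟨m, c, x⟩, rfl⟩ := hg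
      obtain ⟨b, hb⟩ := hf x
      let β : (⋀[A]^n B) →ₗ[A] ⋀[A]^n B := exteriorPower.map n (LinearMap.mulLeft A b)
      let c' := exteriorPower.map n (qe.inv.restrictScalars A) m
      have hm : re ^ n • m = E c' := (qinv_map_right qe n m).symm
      have hx : ∀ d, s₂ ^ n • exteriorPower.map n (mulBy (A := A) (B := B) x) d = F (β d) := fun d => by
        show _ = exteriorPower.map n _ (exteriorPower.map n _ d)
        rw [← map_smul_hom, ← LinearMap.comp_apply (exteriorPower.map n _) (exteriorPower.map n _),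
          ← exteriorPower.map_comp]
        congr 1
        refine congrArg _ (LinearMap.ext fun d => ?_)
        show s₂ • d • x = (b * d) • f
        rw [smul_comm, ← hb, smul_smul, mul_comm]
      have hxd : ∀ d, s₂ ^ n • exteriorPower.map n (tenBy (A := A) (B := B) x) (E d) = H (β d) := fun d => by
        show s₂ ^ n • exteriorPower.map n _ (exteriorPower.map n _ d) =
          exteriorPower.map n _ (exteriorPower.map n _ d)
        rw [← map_smul_hom, ← LinearMap.comp_apply, ← exteriorPower.map_comp,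
          ← LinearMap.comp_apply (exteriorPower.map n _) (exteriorPower.map n _), ← exteriorPower.map_comp]
        refine congrArg (fun h => exteriorPower.map n h d) (LinearMap.ext fun k => ?_)
        show s₂ • ((k • e) ⊗ₜ[B] x) = (b * k) • (e ⊗ₜ[B] f)
        rw [← algebraMap_smul B s₂, ← TensorProduct.tmul_smul, algebraMap_smul, ← hb,
          TensorProduct.tmul_smul, TensorProduct.smul_tmul', TensorProduct.smul_tmul', smul_smul]
      have hx' : re ^ n • s₂ ^ n • exteriorPower.map n (tenBy (A := A) (B := B) x) m = H (β c') := by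
        rw [smul_comm, ← map_smul, hm, hxd]
      have hcomm : σ • (β c ⊗ₜ[A] c') = σ • (c ⊗ₜ[A] β c') := by
        have h1 := tmul_endo_comm (s₀ ^ n) ω hω (LinearMap.id (R := A)) (β c) c'
        have h2 := tmul_endo_comm (s₀ ^ n) ω hω β c' c
        exact h1.trans h2
      refine ⟨(rf ^ n * σ) • (c' ⊗ₜ[A] β c), Prod.ext ?_ ?_⟩
      · show T • (m ⊗ₜ[A] exteriorPower.map n (mulBy (A := A) (B := B) x) c) = J₁ _
        rw [map_smul]
        show _ = (rf ^ n * σ) • (E c' ⊗ₜ[A] F (β c))
        rw [← hm, ← hx, TensorProduct.smul_tmul_smul, smul_smul]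
        congr 1
        simp only [T, t]
        ring
      · show T • (c ⊗ₜ[A] exteriorPower.map n (tenBy (A := A) (B := B) x) m) = J₂ _
        rw [map_smul]
        show _ = (rf ^ n * σ) • TensorProduct.map LinearMap.id H (β c ⊗ₜ[A] c')
        rw [mul_smul (rf ^ n) σ, ← map_smul (TensorProduct.map LinearMap.id H) σ, hcomm, map_smul,
          TensorProduct.map_tmul, ← hx', LinearMap.id_apply, TensorProduct.tmul_smul, TensorProduct.tmul_smul]
        simp only [smul_smul, T, t]
        congr 1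
        ring
  let K₁ := TensorProduct.map (exteriorPower.map n (qe.inv.restrictScalars A))
    (exteriorPower.map n (qf.inv.restrictScalars A))
  let K₂ := (TensorProduct.comm A (⋀[A]^n B) (⋀[A]^n B)).toLinearMap ∘ₗ
    TensorProduct.map (LinearMap.id : (⋀[A]^n B) →ₗ[A] _) (exteriorPower.map n (q₁₂.inv.restrictScalars A))
  have hK₁ : ∀ z, K₁ (J₁ z) = t • z ∧ ∀ y, J₁ (K₁ y) = t • y := fun z => by
    refine ⟨?_, fun y => ?_⟩
    · induction z using TensorProduct.induction_on with
      | zero => simp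
      | add a b ha hb => rw [map_add, map_add, ha, hb, smul_add]
      | tmul c d =>
        show TensorProduct.map _ _ (E c ⊗ₜ[A] F d) = _
        rw [TensorProduct.map_tmul, qinv_map_left qe, qinv_map_left qf, TensorProduct.smul_tmul_smul]
    · induction y using TensorProduct.induction_on with
      | zero => simp
      | add a b ha hb => rw [map_add, map_add, ha, hb, smul_add]
      | tmul c d =>
        show TensorProduct.map E F (_ ⊗ₜ[A] _) = _
        rw [TensorProduct.map_tmul]
        show exteriorPower.map n _ _ ⊗ₜ[A] exteriorPower.map n _ _ = _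
        rw [qinv_map_right qe, qinv_map_right qf, TensorProduct.smul_tmul_smul]
  have hK₂ : ∀ z, K₂ (J₂ z) = t • z ∧ ∀ y, J₂ (K₂ y) = t • y := fun z => by
    refine ⟨?_, fun y => ?_⟩
    · induction z using TensorProduct.induction_on with
      | zero => simp
      | add a b ha hb => rw [map_add, map_add, ha, hb, smul_add]
      | tmul c d =>
        show exteriorPower.map n _ (exteriorPower.map n _ c) ⊗ₜ[A] d = _
        rw [qinv_map_left q₁₂, mul_pow, TensorProduct.smul_tmul']
    · induction y using TensorProduct.induction_on with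
      | zero => simp
      | add a b ha hb => rw [map_add, map_add, ha, hb, smul_add]
      | tmul c d =>
        show c ⊗ₜ[A] exteriorPower.map n _ (exteriorPower.map n _ d) = _
        rw [qinv_map_right q₁₂, mul_pow, TensorProduct.tmul_smul]
  have hTt : ∀ {X : Type u} [AddCommGroup X] [Module A X] (x : X), T • x = (s₂ ^ n * σ) • t • x := by
    intro X _ _ x
    rw [smul_smul]
    congr 1
    simp only [T]
    ring
  refine ⟨T, J₁, J₂, hT, hgen, fun z w hzw => ?_, fun z w hzw => ?_, fun y => ⟨(s₂ ^ n * σ) • K₁ y, ?_⟩,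
    fun y => ⟨(s₂ ^ n * σ) • K₂ y, ?_⟩, hz⟩
  · rw [hTt z, hTt w, ← (hK₁ z).1, hzw, (hK₁ w).1]
  · rw [hTt z, hTt w, ← (hK₂ z).1, hzw, (hK₂ w).1]
  · rw [map_smul, (hK₁ 0).2]
    exact hTt y
  · rw [map_smul, (hK₂ 0).2]
    exact hTt y

/-- The norm is multiplicative. -/
theorem nonempty_norm_mul (n : ℕ)
    (hn : ∀ q : PrimeSpectrum A, Module.finrank (Localization.AtPrime q.asIdeal)
      (LocalizedModule q.asIdeal.primeCompl B) = n)
    (h₁ : ∀ Q : PrimeSpectrum B, Module.finrank (Localization.AtPrime Q.asIdeal)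
      (LocalizedModule Q.asIdeal.primeCompl M₁) = 1)
    (h₂ : ∀ Q : PrimeSpectrum B, Module.finrank (Localization.AtPrime Q.asIdeal)
      (LocalizedModule Q.asIdeal.primeCompl M₂) = 1) :
    Nonempty ((⋀[A]^n B) ⊗[A] (⋀[A]^n (M₁ ⊗[B] M₂)) ≃ₗ[A] (⋀[A]^n M₁) ⊗[A] (⋀[A]^n M₂)) := by
  let G := normRel A B M₁ M₂ n
  let π₁ := (LinearMap.fst A _ _).domRestrict G
  let π₂ := (LinearMap.snd A _ _).domRestrict G
  have loc := fun (p : Ideal A) (hp : p.IsPrime) => exists_local (M₁ := M₁) (M₂ := M₂) n h₁ h₂ p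
    (hn ⟨p, hp⟩)
  have hb₁ : Function.Bijective π₁ := by
    refine ⟨fun a b hab => ?_, fun y => ?_⟩
    · suffices h0 : a.1.2 = b.1.2 from Subtype.ext (Prod.ext hab h0)
      refine eq_of_forall_prime (A := A) _ _ fun p hp => ?_
      obtain ⟨T, J₁, J₂, hT, hg, hk, -, -, -, -⟩ := loc p hp
      obtain ⟨w, hw⟩ := hg _ a.2
      obtain ⟨w', hw'⟩ := hg _ b.2
      have hw1 : J₁ w = J₁ w' :=
        (congrArg Prod.fst hw).symm.trans ((congrArg (T • ·) hab).trans (congrArg Prod.fst hw'))
      refine ⟨T * T, fun h => (hp.mem_or_mem h).elim hT hT, ?_⟩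
      rw [mul_smul, mul_smul, show T • a.1.2 = J₂ w from congrArg Prod.snd hw,
        show T • b.1.2 = J₂ w' from congrArg Prod.snd hw', ← map_smul, hk w w' hw1, map_smul]
    · obtain ⟨g, hg, hgy⟩ : y ∈ G.map (LinearMap.fst A _ _) := by
        refine mem_of_forall_prime _ y fun p hp => ?_
        obtain ⟨T, J₁, J₂, hT, -, -, -, hs, -, hz⟩ := loc p hp
        obtain ⟨w, hw⟩ := hs y
        exact ⟨T, hT, ⟨(J₁ w, J₂ w), hz w, hw.symm⟩⟩
      exact ⟨⟨g, hg⟩, hgy⟩
  have hb₂ : Function.Bijective π₂ := by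
    refine ⟨fun a b hab => ?_, fun y => ?_⟩
    · suffices h0 : a.1.1 = b.1.1 from Subtype.ext (Prod.ext h0 hab)
      refine eq_of_forall_prime (A := A) _ _ fun p hp => ?_
      obtain ⟨T, J₁, J₂, hT, hg, -, hk, -, -, -⟩ := loc p hp
      obtain ⟨w, hw⟩ := hg _ a.2
      obtain ⟨w', hw'⟩ := hg _ b.2
      have hw1 : J₂ w = J₂ w' :=
        (congrArg Prod.snd hw).symm.trans ((congrArg (T • ·) hab).trans (congrArg Prod.snd hw'))
      refine ⟨T * T, fun h => (hp.mem_or_mem h).elim hT hT, ?_⟩
      rw [mul_smul, mul_smul, show T • a.1.1 = J₁ w from congrArg Prod.fst hw,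
        show T • b.1.1 = J₁ w' from congrArg Prod.fst hw', ← map_smul, hk w w' hw1, map_smul]
    · obtain ⟨g, hg, hgy⟩ : y ∈ G.map (LinearMap.snd A _ _) := by
        refine mem_of_forall_prime _ y fun p hp => ?_
        obtain ⟨T, J₁, J₂, hT, -, -, -, -, hs, hz⟩ := loc p hp
        obtain ⟨w, hw⟩ := hs y
        exact ⟨T, hT, ⟨(J₁ w, J₂ w), hz w, hw.symm⟩⟩
      exact ⟨⟨g, hg⟩, hgy⟩
  exact ⟨(LinearEquiv.ofBijective π₂ hb₂).symm.trans (LinearEquiv.ofBijective π₁ hb₁)⟩

end Groth.Agent.H26HilbChow
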