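import Groth.Agent.H26HilbChow.SemilocalGen
import Mathlib.LinearAlgebra.Matrix.ToLin
import Mathlib.RingTheory.LocalRing.ResidueField.Basic

/-!
# Bases of projective modules near the points of the base of a finite algebra

For `B` finite over `A` and a projective `B`-module `M` of rank `k`, at every prime `p` of `A` there
are `e : Fin k → M`, `s ∉ p` and `g : M → Bᵏ` inverting `c ↦ ∑ cᵢ eᵢ` up to `s`.
-/

set_option autoImplicit false

universe u

namespace Groth.Agent.H26HilbChow

variable {A B : Type u} [CommRing A] [CommRing B] [Algebra A B] [Module.Finite A B]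
  {M : Type u} [AddCommGroup M] [Module B M]

/-- `e` is a basis after localisation at `Q`. -/
def IsBasisAt {k : ℕ} (Q : Ideal B) [Q.IsPrime] (e : Fin k → M) : Prop :=
  Function.Bijective fun c : Fin k → Localization.AtPrime Q =>
    ∑ i, c i • (LocalizedModule.mk (e i) 1 : LocalizedModule Q.primeCompl M)

theorem exists_isBasisAt [Module.Finite B M] [Module.Projective B M] {k : ℕ} (Q : Ideal B) [Q.IsPrime]
    (hQ : Module.finrank (Localization.AtPrime Q) (LocalizedModule Q.primeCompl M) = k) :
    ∃ x : Fin k → M, IsBasisAt Q x := by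
  let R := Localization.AtPrime Q
  let L := LocalizedModule Q.primeCompl M
  haveI : Module.Finite R L :=
    Module.Finite.of_isLocalizedModule Q.primeCompl (LocalizedModule.mkLinearMap Q.primeCompl M)
  haveI : Module.FinitePresentation B M := Module.finitePresentation_of_projective B M
  haveI : Module.Free R L :=
    (Set.eq_univ_iff_forall.1 (Module.freeLocus_eq_univ (R := B) (M := M)) ⟨Q, inferInstance⟩ :)
  let b : Module.Basis (Fin k) R L := Module.finBasisOfFinrankEq R L hQ
  have hb : ∀ i, ∃ y : M × Q.primeCompl, LocalizedModule.mk y.1 y.2 = b i := fun i => by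
    induction b i using LocalizedModule.induction_on with
    | _ m s => exact ⟨(m, s), rfl⟩
  choose y hy using hb
  refine ⟨fun i => (y i).1, ?_⟩
  have hu : ∀ i, IsUnit (algebraMap B R (y i).2) := fun i => IsLocalization.map_units R (y i).2
  let w : Fin k → Rˣ := fun i => (hu i).unit
  let b' := b.unitsSMul w
  have hb' : ∀ i, (LocalizedModule.mk (y i).1 1 : L) = b' i := fun i => by
    rw [b.unitsSMul_apply, Units.smul_def, IsUnit.unit_spec, ← hy i, algebraMap_smul,
      LocalizedModule.smul'_mk, ← Submonoid.smul_def, LocalizedModule.mk_cancel]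
  show Function.Bijective fun c : Fin k → R => ∑ i, c i • (LocalizedModule.mk (y i).1 1 : L)
  simp only [hb']
  exact ⟨fun c c' h => b'.equivFun.symm.injective (by simpa [Module.Basis.equivFun_symm_apply] using h),
    fun z => ⟨b'.equivFun z, b'.sum_equivFun z⟩⟩

omit [Module.Finite A B] in
theorem exists_mul_smul_eq_sum {k : ℕ} {Q : Ideal B} [Q.IsPrime] {x : Fin k → M} (hx : IsBasisAt Q x)
    (m : M) : ∃ (q : B) (b : Fin k → B), q ∉ Q ∧ q • m = ∑ i, b i • x i := by
  let R := Localization.AtPrime Q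
  let ι : M →ₗ[B] LocalizedModule Q.primeCompl M := LocalizedModule.mkLinearMap Q.primeCompl M
  obtain ⟨c, hc⟩ := hx.2 (ι m)
  obtain ⟨⟨d, hd⟩, hint⟩ := IsLocalization.exist_integer_multiples_of_finite Q.primeCompl c
  choose b hb using hint
  have h1 : ι (d • m) = ι (∑ i, b i • x i) := by
    rw [map_smul, ← hc, map_sum, Finset.smul_sum]
    refine Finset.sum_congr rfl fun i _ => ?_
    rw [map_smul, ← smul_assoc, ← hb i, algebraMap_smul]
    rfl
  rw [IsLocalizedModule.eq_iff_exists Q.primeCompl ι] at h1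
  obtain ⟨w, hw⟩ := h1
  refine ⟨(w : B) * d, fun i => (w : B) * b i, fun h => ?_, ?_⟩
  · exact ((‹Q.IsPrime›).mem_or_mem h).elim w.2 hd
  · rw [mul_smul]
    refine (show (w : B) • d • m = (w : B) • ∑ i, b i • x i from hw).trans ?_
    rw [Finset.smul_sum]
    simp only [mul_smul]

/-- A single family is a basis near all points over `p`. -/
theorem exists_isBasisAt_over [Module.Finite B M] [Module.Projective B M] {k : ℕ}
    (hM : ∀ Q : PrimeSpectrum B, Module.finrank (Localization.AtPrime Q.asIdeal)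
      (LocalizedModule Q.asIdeal.primeCompl M) = k)
    (p : Ideal A) [p.IsPrime] :
    ∃ e : Fin k → M, ∀ (Q : Ideal B) [Q.IsPrime], Q.comap (algebraMap A B) = p → IsBasisAt Q e := by
  classical
  let T := (Algebra.QuasiFinite.finite_primesOver (R := A) (S := B) p).toFinset
  have hT : ∀ Q : Ideal B, Q ∈ T ↔ Q.IsPrime ∧ Q.comap (algebraMap A B) = p := fun Q => by
    rw [Set.Finite.mem_toFinset]
    exact ⟨fun h => ⟨h.1, h.2.over.symm⟩, fun h => ⟨h.1, ⟨h.2.symm⟩⟩⟩
  have hx : ∀ Q : {Q // Q ∈ T}, ∃ x : Fin k → M, haveI := ((hT Q.1).1 Q.2).1; IsBasisAt Q.1 x := fun Q => by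
    haveI := ((hT Q.1).1 Q.2).1
    exact exists_isBasisAt Q.1 (hM ⟨Q.1, inferInstance⟩)
  choose x hx using hx
  have hb : ∀ Q : {Q // Q ∈ T}, ∃ b : B, b ∉ Q.1 ∧ ∀ Q' : {Q // Q ∈ T}, Q' ≠ Q → b ∈ Q'.1 := fun Q => by
    haveI := ((hT Q.1).1 Q.2).1
    have h : ¬ (Finset.univ.erase Q).inf (fun Q' : {Q // Q ∈ T} => Q'.1) ≤ Q.1 := by
      rw [Ideal.IsPrime.inf_le' inferInstance]
      rintro ⟨Q', hQ', hle⟩
      haveI := ((hT Q'.1).1 Q'.2).1
      refine Finset.ne_of_mem_erase hQ' (Subtype.ext ?_)
      refine hle.antisymm (le_of_eq ?_)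
      by_contra hne
      have hlt : Q'.1 < Q.1 := lt_of_le_of_ne hle fun h => hne h.symm
      have := Ideal.IsIntegral.comap_lt_comap hlt (R := A)
      rw [((hT Q'.1).1 Q'.2).2, ((hT Q.1).1 Q.2).2] at this
      exact this.ne rfl
    obtain ⟨b, hb, hbQ⟩ := SetLike.not_le_iff_exists.1 h
    refine ⟨b, hbQ, fun Q' hQ' => ?_⟩
    exact (Submodule.mem_finsetInf.1 hb) Q' (Finset.mem_erase.2 ⟨hQ', Finset.mem_univ _⟩)
  choose b hb hb' using hb
  refine ⟨fun i => ∑ Q, b Q • x Q i, fun Q hQ hQp => ?_⟩
  let Q₀ : {Q // Q ∈ T} := ⟨Q, (hT Q).2 ⟨hQ, hQp⟩⟩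
  let R := Localization.AtPrime Q
  let L := LocalizedModule Q.primeCompl M
  let ι : M →ₗ[B] L := LocalizedModule.mkLinearMap Q.primeCompl M
  let Φ : (Fin k → R) →ₗ[R] L := Fintype.linearCombination R fun i => ι (x Q₀ i)
  have hΦa : ∀ c, Φ c = ∑ i, c i • ι (x Q₀ i) := fun c => rfl
  have hx₀ : Function.Bijective Φ := hx Q₀
  have hex : ∀ Q' i, ∃ c, Φ c = ι (x Q' i) := fun Q' i => hx₀.2 _
  choose c hc using hex
  let C : Matrix (Fin k) (Fin k) R := fun i l => ∑ Q', algebraMap B R (b Q') * c Q' i l
  have hC : ∀ i, ι (∑ Q', b Q' • x Q' i) = Φ (C i) := fun i => by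
    rw [map_sum, hΦa]
    rw [Finset.sum_congr rfl (fun l _ => Finset.sum_smul), Finset.sum_comm]
    refine Finset.sum_congr rfl fun Q' _ => ?_
    rw [map_smul, ← hc, hΦa, Finset.smul_sum]
    refine Finset.sum_congr rfl fun l _ => ?_
    rw [mul_smul, algebraMap_smul]
  have hc₀ : ∀ i, c Q₀ i = Pi.single i 1 := fun i => hx₀.1 (by
    rw [hc]
    simp [Φ, Fintype.linearCombination_apply, Pi.single_apply, ite_smul])
  have hdet : IsUnit C.det := by
    by_contra hnu
    have h1 : (IsLocalRing.residue R) C.det = 0 := (IsLocalRing.residue_eq_zero_iff _).2 hnu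
    rw [RingHom.map_det] at h1
    have h2 : (IsLocalRing.residue R).mapMatrix C =
        (IsLocalRing.residue R (algebraMap B R (b Q₀))) • (1 : Matrix (Fin k) (Fin k) _) := by
      ext i l
      simp only [RingHom.mapMatrix_apply, Matrix.map_apply, C, map_sum, map_mul, Matrix.smul_apply,
        smul_eq_mul]
      rw [Finset.sum_eq_single Q₀ (fun Q' _ hne => ?_) (fun h => absurd (Finset.mem_univ _) h), hc₀]
      · congr 1
        by_cases h : i = l
        · subst h; simp
        · simp [h, Ne.symm h]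
      · rw [(IsLocalRing.residue_eq_zero_iff _).2 ((IsLocalization.AtPrime.to_map_mem_maximal_iff R Q (b Q')).2
          (hb' Q' Q₀ hne.symm)), zero_mul]
    rw [h2, Matrix.det_smul, Matrix.det_one, mul_one] at h1
    have h3 := eq_zero_of_pow_eq_zero h1
    exact hb Q₀ ((IsLocalization.AtPrime.to_map_mem_maximal_iff R Q (b Q₀)).1
      ((IsLocalRing.residue_eq_zero_iff _).1 h3))
  show Function.Bijective fun d : Fin k → R => ∑ i, d i • ι (∑ Q', b Q' • x Q' i)
  have heq : (fun d : Fin k → R => ∑ i, d i • ι (∑ Q', b Q' • x Q' i)) = Φ ∘ C.vecMulLinear := by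
    funext d
    simp only [hC, ← map_smul, ← map_sum, Function.comp_apply]
    congr 1
    funext l
    simp [Matrix.vecMul, dotProduct, Finset.sum_apply]
  rw [heq]
  refine hx₀.comp ?_
  exact ⟨Matrix.vecMul_injective_of_isUnit ((Matrix.isUnit_iff_isUnit_det C).2 hdet),
    Matrix.vecMul_surjective_iff_isUnit.2 ((Matrix.isUnit_iff_isUnit_det C).2 hdet)⟩

variable [Module A M] [IsScalarTower A B M]

/-- Near `p`, the module is free on `k` elements up to an element of `A` outside `p`. -/
theorem exists_basis_near [Module.Finite B M] [Module.Projective B M] {k : ℕ}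
    (hM : ∀ Q : PrimeSpectrum B, Module.finrank (Localization.AtPrime Q.asIdeal)
      (LocalizedModule Q.asIdeal.primeCompl M) = k)
    (p : Ideal A) [p.IsPrime] :
    ∃ e : Fin k → M, ∃ s ∉ p, ∃ g : M →ₗ[B] (Fin k → B),
      (∀ m, ∑ i, g m i • e i = s • m) ∧ ∀ c, g (∑ i, c i • e i) = s • c := by
  classical
  obtain ⟨e, he⟩ := exists_isBasisAt_over hM p
  obtain ⟨s, hs, hsJ⟩ := exists_notMem_algebraMap_mem p
    (Module.annihilator B (M ⧸ Submodule.span B (Set.range e))) fun Q hQ hQp hle => by
      obtain ⟨G, hG⟩ := (Module.Finite.fg_top : (⊤ : Submodule B M).FG)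
      choose q b hq hqb using fun m => exists_mul_smul_eq_sum (he Q hQp) m
      refine absurd (hle (Module.mem_annihilator.2 fun z => ?_) : ∏ g ∈ G, q g ∈ Q) fun h => ?_
      · obtain ⟨m, rfl⟩ := Submodule.Quotient.mk_surjective _ z
        rw [← Submodule.Quotient.mk_smul, Submodule.Quotient.mk_eq_zero]
        have hm : m ∈ Submodule.span B (G : Set M) := hG ▸ Submodule.mem_top
        induction hm using Submodule.span_induction with
        | mem g hg =>
          rw [← Finset.prod_erase_mul _ _ hg, mul_smul, hqb]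
          exact Submodule.smul_mem _ _ (Submodule.sum_mem _ fun i _ =>
            Submodule.smul_mem _ _ (Submodule.subset_span ⟨i, rfl⟩))
        | zero => simp
        | add a c _ _ ha hc => rw [smul_add]; exact add_mem ha hc
        | smul a c _ hc => rw [smul_comm]; exact Submodule.smul_mem _ a hc
      · obtain ⟨g, -, hg⟩ := (hQ.prod_mem_iff).1 h
        exact hq g hg
  let φ : (Fin k → B) →ₗ[B] M := Fintype.linearCombination B e
  have hφ : ∀ c, φ c = ∑ i, c i • e i := fun c => rfl
  have hsM : ∀ m, algebraMap A B s • m ∈ LinearMap.range φ := fun m => by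
    have h := Module.mem_annihilator.1 hsJ (Submodule.Quotient.mk m)
    rw [← Submodule.Quotient.mk_smul, Submodule.Quotient.mk_eq_zero, ← Fintype.range_linearCombination] at h
    exact h
  let γ : M →ₗ[B] LinearMap.range φ := LinearMap.codRestrict _ (algebraMap A B s • LinearMap.id) hsM
  obtain ⟨g, hg⟩ := Module.projective_lifting_property φ.rangeRestrict γ φ.surjective_rangeRestrict
  have hg' : ∀ m, φ (g m) = s • m := fun m =>
    (congrArg Subtype.val (LinearMap.congr_fun hg m)).trans (algebraMap_smul B s m)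
  let κ : Fin k → Fin k → B := fun i => s • (Pi.single i 1 : Fin k → B) - g (e i)
  have hκ : ∀ i, φ (κ i) = 0 := fun i => by
    rw [map_sub, hg', ← algebraMap_smul B s (Pi.single i (1 : B) : Fin k → B), map_smul, algebraMap_smul]
    simp [φ, Fintype.linearCombination_apply, Pi.single_apply, ite_smul]
  obtain ⟨t, ht, htJ⟩ := exists_notMem_algebraMap_mem p (Submodule.span B (Set.range κ)).annihilator
    fun Q hQ hQp hle => by
      have h0 : ∀ i l, algebraMap B (Localization.AtPrime Q) (κ i l) = 0 := fun i l => by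
        refine congrFun ((he Q hQp).1 (a₁ := fun l => algebraMap B _ (κ i l)) (a₂ := 0) ?_) l
        simp only [Pi.zero_apply, zero_smul, Finset.sum_const_zero, algebraMap_smul]
        rw [show (∑ l, κ i l • (LocalizedModule.mk (e l) 1 : LocalizedModule Q.primeCompl M)) =
          LocalizedModule.mkLinearMap Q.primeCompl M (φ (κ i)) by
            rw [hφ, map_sum]; simp only [map_smul]; rfl, hκ, map_zero]
      choose q hq using fun i l => (IsLocalization.map_eq_zero_iff Q.primeCompl _ (κ i l)).1 (h0 i l)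
      refine (∏ i, ∏ l, q i l : Q.primeCompl).2 (hle ?_)
      rw [Submodule.mem_annihilator_span]
      rintro ⟨_, ⟨i, rfl⟩⟩
      funext l
      show ((∏ i, ∏ l, q i l : Q.primeCompl) : B) * κ i l = 0
      rw [Submonoid.coe_finsetProd, ← Finset.prod_erase_mul _ _ (Finset.mem_univ i),
        Submonoid.coe_finsetProd, ← Finset.prod_erase_mul _ _ (Finset.mem_univ l), mul_assoc, mul_assoc,
        hq i l, mul_zero, mul_zero]
  refine ⟨e, t * s, fun h => ((‹p.IsPrime›).mem_or_mem h).elim ht hs, algebraMap A B t • g,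
    fun m => ?_, fun c => ?_⟩
  · rw [← hφ]
    show φ (algebraMap A B t • g m) = _
    rw [map_smul, hg', algebraMap_smul, smul_smul]
  · show algebraMap A B t • g (∑ i, c i • e i) = _
    rw [map_sum, Finset.smul_sum]
    conv_rhs => rw [pi_eq_sum_univ' c, Finset.smul_sum]
    refine Finset.sum_congr rfl fun i _ => ?_
    have h3 : algebraMap A B t • κ i = 0 :=
      (Submodule.mem_annihilator_span _ _).1 htJ ⟨κ i, i, rfl⟩
    rw [map_smul, smul_comm, show g (e i) = s • (Pi.single i 1 : Fin k → B) - κ i by simp [κ], smul_sub, h3, sub_zero]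
    funext l
    by_cases hl : l = i
    · subst hl; simp [Algebra.smul_def, map_mul]; ring
    · simp [Algebra.smul_def, hl]

end Groth.Agent.H26HilbChow
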