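import Mathlib.RingTheory.QuasiFinite.Basic
import Mathlib.RingTheory.Flat.Basic
import Mathlib.RingTheory.LocalRing.Module
import Mathlib.RingTheory.Localization.Module
import Mathlib.RingTheory.Spectrum.Prime.FreeLocus
import Mathlib.LinearAlgebra.Dimension.FreeAndStrongRankCondition
import Mathlib.RingTheory.Ideal.GoingUp

/-!
# Generators of invertible modules near the points of the base of a finite algebra

For `B` finite over `A` and an invertible `B`-module `M`, at every prime `p` of `A` there are `e : M`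
and `s ∉ p` such that `B → M, b ↦ b • e` has kernel and cokernel killed by `s`.
-/

set_option autoImplicit false

universe u

namespace Groth.Agent.H26HilbChow

section

variable {A B : Type u} [CommRing A] [CommRing B] [Algebra A B] [Module.Finite A B]

/-- An ideal contained in no prime over `p` meets the complement of `p`. -/
theorem exists_notMem_algebraMap_mem (p : Ideal A) [p.IsPrime] (J : Ideal B)
    (h : ∀ Q : Ideal B, Q.IsPrime → Q.comap (algebraMap A B) = p → ¬ J ≤ Q) :
    ∃ s ∉ p, algebraMap A B s ∈ J := by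
  by_contra hne
  push_neg at hne
  obtain ⟨Q, hJQ, hQ, hQp⟩ := Ideal.exists_ideal_over_prime_of_isIntegral p J (fun a ha => by
    by_contra hap
    exact hne a hap ha)
  exact h Q hQ hQp hJQ

variable {M : Type u} [AddCommGroup M] [Module B M]

/-- The multiples of `x` are a basis after localisation at `Q`. -/
def IsGenAt (Q : Ideal B) [Q.IsPrime] (x : M) : Prop :=
  Function.Bijective fun c : Localization.AtPrime Q => c • (LocalizedModule.mk x 1 : LocalizedModule Q.primeCompl M)

theorem exists_isGenAt [Module.Finite B M] [Module.Projective B M] (Q : Ideal B) [Q.IsPrime]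
    (hQ : Module.finrank (Localization.AtPrime Q) (LocalizedModule Q.primeCompl M) = 1) :
    ∃ x : M, IsGenAt Q x := by
  let R := Localization.AtPrime Q
  let L := LocalizedModule Q.primeCompl M
  haveI : Module.Finite R L := Module.Finite.of_isLocalizedModule Q.primeCompl (LocalizedModule.mkLinearMap Q.primeCompl M)
  haveI : Module.FinitePresentation B M := Module.finitePresentation_of_projective B M
  haveI : Module.Free R L :=
    (Set.eq_univ_iff_forall.1 (Module.freeLocus_eq_univ (R := B) (M := M)) ⟨Q, inferInstance⟩ :)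
  let b : Module.Basis Unit R L := Module.basisUnique Unit hQ
  obtain ⟨⟨x, q⟩, hxq⟩ : ∃ y : M × Q.primeCompl, LocalizedModule.mk y.1 y.2 = b () := by
    induction b () using LocalizedModule.induction_on with
    | _ m s => exact ⟨(m, s), rfl⟩
  have hu : IsUnit (algebraMap B R q) := IsLocalization.map_units R q
  have hx : (LocalizedModule.mk x 1 : L) = algebraMap B R q • b () := by
    rw [← hxq, algebraMap_smul, LocalizedModule.smul'_mk, ← Submonoid.smul_def,
      LocalizedModule.mk_cancel]
  refine ⟨x, ?_⟩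
  show Function.Bijective fun c : R => c • (LocalizedModule.mk x 1 : L)
  rw [hx]
  refine ⟨fun c c' h => hu.mul_left_inj.1 ?_, fun z => ⟨b.repr z () * ↑hu.unit⁻¹, ?_⟩⟩
  · simp only [smul_smul] at h
    have := congrArg (fun z => b.repr z ()) h
    simpa using this
  · simp only [smul_smul, mul_assoc, IsUnit.val_inv_mul, mul_one]
    conv_rhs => rw [← b.sum_repr z]
    simp

omit [Module.Finite A B] in
theorem exists_mul_smul_eq {Q : Ideal B} [Q.IsPrime] {x : M} (hx : IsGenAt Q x) (m : M) :
    ∃ (q : B) (b : B), q ∉ Q ∧ q • m = b • x := by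
  obtain ⟨c, hc⟩ := hx.2 (LocalizedModule.mk m 1)
  simp only at hc
  obtain ⟨⟨b, q⟩, rfl⟩ : ∃ y : B × Q.primeCompl, Localization.mk y.1 y.2 = c := by
    induction c using Localization.induction_on with
    | H y => exact ⟨y, rfl⟩
  rw [LocalizedModule.mk_smul_mk, mul_one, LocalizedModule.mk_eq] at hc
  obtain ⟨u, hu⟩ := hc
  refine ⟨u * q, u * b, fun h => ?_, ?_⟩
  · exact ((‹Q.IsPrime›).mem_or_mem h).elim u.2 q.2
  · simp only [Submonoid.smul_def, one_smul, smul_smul] at hu
    simpa [smul_smul] using hu.symm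

/-- A single element generates near all points over `p`. -/
theorem exists_isGenAt_over [Module.Finite B M] [Module.Projective B M]
    (hM : ∀ Q : PrimeSpectrum B, Module.finrank (Localization.AtPrime Q.asIdeal)
      (LocalizedModule Q.asIdeal.primeCompl M) = 1)
    (p : Ideal A) [p.IsPrime] :
    ∃ e : M, ∀ (Q : Ideal B) [Q.IsPrime], Q.comap (algebraMap A B) = p → IsGenAt Q e := by
  classical
  let T := (Algebra.QuasiFinite.finite_primesOver (R := A) (S := B) p).toFinset
  have hT : ∀ Q : Ideal B, Q ∈ T ↔ Q.IsPrime ∧ Q.comap (algebraMap A B) = p := fun Q => by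
    rw [Set.Finite.mem_toFinset]
    exact ⟨fun h => ⟨h.1, h.2.over.symm⟩, fun h => ⟨h.1, ⟨h.2.symm⟩⟩⟩
  have hx : ∀ Q : {Q // Q ∈ T}, ∃ x : M, haveI := ((hT Q.1).1 Q.2).1; IsGenAt Q.1 x := fun Q => by
    haveI := ((hT Q.1).1 Q.2).1
    exact exists_isGenAt Q.1 (hM ⟨Q.1, inferInstance⟩)
  choose x hx using hx
  have hb : ∀ Q : {Q // Q ∈ T}, ∃ b : B, b ∉ Q.1 ∧ ∀ Q' : {Q // Q ∈ T}, Q' ≠ Q → b ∈ Q'.1 := fun Q => by
    haveI := ((hT Q.1).1 Q.2).1
    have h : ¬ (Finset.univ.erase Q).inf (fun Q' : {Q // Q ∈ T} => Q'.1) ≤ Q.1 := by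
      rw [Ideal.IsPrime.inf_le' inferInstance]
      rintro ⟨Q', hQ', hle⟩
      haveI := ((hT Q'.1).1 Q'.2).1
      refine Finset.ne_of_mem_erase hQ' (Subtype.ext ?_)
      refine hle.antisymm (le_of_eq ?_)
      by_contra hne
      have hlt : Q'.1 < Q.1 := lt_of_le_of_ne hle fun h => hne h.symm
      have := Ideal.IsIntegral.comap_lt_comap hlt (R := A)
      rw [((hT Q'.1).1 Q'.2).2, ((hT Q.1).1 Q.2).2] at this
      exact this.ne rfl
    obtain ⟨b, hb, hbQ⟩ := SetLike.not_le_iff_exists.1 h
    refine ⟨b, hbQ, fun Q' hQ' => ?_⟩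
    exact (Submodule.mem_finsetInf.1 hb) Q' (Finset.mem_erase.2 ⟨hQ', Finset.mem_univ _⟩)
  choose b hb hb' using hb
  refine ⟨∑ Q, b Q • x Q, fun Q hQ hQp => ?_⟩
  let Q₀ : {Q // Q ∈ T} := ⟨Q, (hT Q).2 ⟨hQ, hQp⟩⟩
  let R := Localization.AtPrime Q
  let L := LocalizedModule Q.primeCompl M
  let ι : M →ₗ[B] L := LocalizedModule.mkLinearMap Q.primeCompl M
  have hι : ∀ m : M, ι m = LocalizedModule.mk m 1 := fun m => rfl
  have hx₀ : Function.Bijective fun c : R => c • ι (x Q₀) := hx Q₀
  choose c hc using fun Q' => hx₀.2 (ι (x Q'))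
  simp only at hc
  have hd : ι (∑ Q', b Q' • x Q') = (∑ Q', algebraMap B R (b Q') * c Q') • ι (x Q₀) := by
    rw [map_sum, Finset.sum_smul]
    refine Finset.sum_congr rfl fun Q' _ => ?_
    rw [map_smul, mul_smul, hc, algebraMap_smul]
  have hc₀ : c Q₀ = 1 := hx₀.1 (by simp only [hc, one_smul])
  have hu : IsUnit (∑ Q', algebraMap B R (b Q') * c Q') := by
    rw [← Finset.add_sum_erase _ _ (Finset.mem_univ Q₀), hc₀, mul_one]
    by_contra hnu
    have h2 : ∑ Q' ∈ Finset.univ.erase Q₀, algebraMap B R (b Q') * c Q' ∈ IsLocalRing.maximalIdeal R :=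
      Submodule.sum_mem _ fun Q' hQ' => Ideal.mul_mem_right _ _
        ((IsLocalization.AtPrime.to_map_mem_maximal_iff R Q (b Q')).2
          (hb' Q' Q₀ (Finset.ne_of_mem_erase hQ').symm))
    exact hb Q₀ ((IsLocalization.AtPrime.to_map_mem_maximal_iff R Q (b Q₀)).1
      ((Submodule.add_mem_iff_left _ h2).1 hnu))
  show Function.Bijective fun c : R => c • ι (∑ Q', b Q' • x Q')
  rw [hd]
  refine ⟨fun u v h => hu.mul_left_inj.1 (hx₀.1 ?_), fun z => ?_⟩
  · simpa only [smul_smul] using h
  · obtain ⟨w, rfl⟩ := hx₀.2 z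
    exact ⟨w * ↑hu.unit⁻¹, by simp [smul_smul, mul_assoc]⟩

variable [Module A M] [IsScalarTower A B M]

/-- Near `p`, the module is `B • e` up to an element of `A` outside `p`. -/
theorem exists_gen [Module.Finite B M] [Module.Projective B M]
    (hM : ∀ Q : PrimeSpectrum B, Module.finrank (Localization.AtPrime Q.asIdeal)
      (LocalizedModule Q.asIdeal.primeCompl M) = 1)
    (p : Ideal A) [p.IsPrime] :
    ∃ e : M, ∃ s ∉ p, (∀ m : M, ∃ b : B, b • e = s • m) ∧ ∀ b : B, b • e = 0 → s • b = 0 := by
  classical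
  obtain ⟨e, he⟩ := exists_isGenAt_over hM p
  obtain ⟨s, hs, hsJ⟩ := exists_notMem_algebraMap_mem p
    (Module.annihilator B (M ⧸ Submodule.span B ({e} : Set M))) fun Q hQ hQp hle => by
      obtain ⟨G, hG⟩ := (Module.Finite.fg_top : (⊤ : Submodule B M).FG)
      choose q b hq hqb using fun m => exists_mul_smul_eq (he Q hQp) m
      have hprod : ∏ g ∈ G, q g ∉ Q := fun h => by
        obtain ⟨g, -, hg⟩ := (hQ.prod_mem_iff).1 h
        exact hq g hg
      refine hprod (hle (Module.mem_annihilator.2 fun z => ?_))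
      obtain ⟨m, rfl⟩ := Submodule.Quotient.mk_surjective _ z
      rw [← Submodule.Quotient.mk_smul, Submodule.Quotient.mk_eq_zero]
      have hm : m ∈ Submodule.span B (G : Set M) := hG ▸ Submodule.mem_top
      induction hm using Submodule.span_induction with
      | mem g hg =>
        rw [← Finset.prod_erase_mul _ _ hg, mul_smul, hqb, smul_smul]
        exact Submodule.smul_mem _ _ (Submodule.mem_span_singleton_self e)
      | zero => simp
      | add a c _ _ ha hc => rw [smul_add]; exact add_mem ha hc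
      | smul a c _ hc => rw [smul_comm]; exact Submodule.smul_mem _ a hc
  have hsM : ∀ m : M, ∃ b : B, b • e = s • m := fun m => by
    have h := Module.mem_annihilator.1 hsJ (Submodule.Quotient.mk m)
    rw [← Submodule.Quotient.mk_smul, Submodule.Quotient.mk_eq_zero, Submodule.mem_span_singleton,
      algebraMap_smul] at h
    exact h
  let φ : B →ₗ[B] M := LinearMap.toSpanSingleton B M e
  let γ : M →ₗ[B] LinearMap.range φ := LinearMap.codRestrict _ (algebraMap A B s • LinearMap.id) fun m => by
    obtain ⟨b, hb⟩ := hsM m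
    exact ⟨b, hb.trans (algebraMap_smul B s m).symm⟩
  obtain ⟨g, hg⟩ := Module.projective_lifting_property φ.rangeRestrict γ φ.surjective_rangeRestrict
  have hg' : ∀ m, g m • e = s • m := fun m =>
    (congrArg Subtype.val (LinearMap.congr_fun hg m)).trans (algebraMap_smul B s m)
  let k₀ : B := algebraMap A B s - g e
  have hk₀ : k₀ • e = 0 := by rw [sub_smul, algebraMap_smul, hg', sub_self]
  obtain ⟨t, ht, htJ⟩ := exists_notMem_algebraMap_mem p (Submodule.span B ({k₀} : Set B)).annihilator
    fun Q hQ hQp hle => by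
      have h0 : algebraMap B (Localization.AtPrime Q) k₀ = 0 := (he Q hQp).1 (by
        simp only [zero_smul]
        rw [algebraMap_smul, LocalizedModule.smul'_mk, hk₀, LocalizedModule.zero_mk])
      obtain ⟨q, hq⟩ := (IsLocalization.map_eq_zero_iff Q.primeCompl _ k₀).1 h0
      exact q.2 (hle ((Submodule.mem_annihilator_span_singleton _ _).2 hq))
  refine ⟨e, t * s, fun h => ((‹p.IsPrime›).mem_or_mem h).elim ht hs, fun m => ?_,
    fun b hb => ?_⟩
  · obtain ⟨b, hb⟩ := hsM m
    exact ⟨t • b, by rw [smul_assoc, hb, mul_smul]⟩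
  · have h1 : b * k₀ = s • b := by
      have h2 : g (b • e) = b * g e := by rw [map_smul, smul_eq_mul]
      rw [hb, map_zero] at h2
      rw [mul_sub, ← h2, sub_zero, Algebra.smul_def, mul_comm]
    have h3 : algebraMap A B t * k₀ = 0 := (Submodule.mem_annihilator_span_singleton _ _).1 htJ
    rw [mul_smul, ← h1, Algebra.smul_def, mul_left_comm, h3, mul_zero]

end

/-- Near `p`, a finite projective module of rank `n` is generated by `n` elements. -/
theorem exists_span_of_finrank {A B : Type u} [CommRing A] [AddCommGroup B] [Module A B]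
    [Module.Finite A B] [Module.Projective A B] (n : ℕ) (p : Ideal A) [p.IsPrime]
    (hp : Module.finrank (Localization.AtPrime p) (LocalizedModule p.primeCompl B) = n) :
    ∃ v : Fin n → B, ∃ s ∉ p, ∀ b : B, s • b ∈ Submodule.span A (Set.range v) := by
  classical
  let R := Localization.AtPrime p
  let L := LocalizedModule p.primeCompl B
  let ι : B →ₗ[A] L := LocalizedModule.mkLinearMap p.primeCompl B
  haveI : Module.Finite R L := Module.Finite.of_isLocalizedModule p.primeCompl ι
  haveI : Module.FinitePresentation A B := Module.finitePresentation_of_projective A B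
  haveI : Module.Free R L :=
    (Set.eq_univ_iff_forall.1 (Module.freeLocus_eq_univ (R := A) (M := B)) ⟨p, inferInstance⟩ :)
  let β := Module.finBasisOfFinrankEq R L hp
  choose v hv using fun i => IsLocalizedModule.surj p.primeCompl ι (β i)
  refine ⟨fun i => (v i).1, ?_⟩
  let S : Submodule A B := Submodule.span A (Set.range fun i => (v i).1)
  have key : ∀ b : B, ∃ s ∉ p, s • b ∈ S := fun b => by
    obtain ⟨z, hz⟩ : ∃ z : L, z ∈ Submodule.span R (ι '' S) ∧ z = ι b := by
      refine ⟨ι b, ?_, rfl⟩
      rw [← β.sum_repr (ι b)]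
      refine Submodule.sum_mem _ fun i _ => Submodule.smul_mem _ _ ?_
      have hu : IsUnit (algebraMap A R (v i).2) := IsLocalization.map_units R (v i).2
      have h1 : algebraMap A R (v i).2 • β i ∈ Submodule.span R (ι '' S) := by
        rw [algebraMap_smul]
        exact Submodule.subset_span ⟨_, Submodule.subset_span ⟨i, rfl⟩, (hv i).symm⟩
      exact (Submodule.smul_mem_iff_of_isUnit _ hu).1 h1
    have hS : ι b ∈ Submodule.localized' R p.primeCompl ι S := by
      rw [Submodule.localized'_eq_span, ← hz.2]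
      exact hz.1
    obtain ⟨y, hy, q, hq⟩ := hS
    rw [IsLocalizedModule.mk'_eq_iff, Submonoid.smul_def, ← map_smul,
      IsLocalizedModule.eq_iff_exists p.primeCompl ι] at hq
    obtain ⟨w, hw⟩ := hq
    refine ⟨w * q, fun h => ((‹p.IsPrime›).mem_or_mem h).elim w.2 q.2, ?_⟩
    rw [mul_smul]
    exact (show (w : A) • (q : A) • b = (w : A) • y from hw.symm) ▸ S.smul_mem _ hy
  choose s hs hsb using key
  obtain ⟨G, hG⟩ := (Module.Finite.fg_top : (⊤ : Submodule A B).FG)
  refine ⟨∏ g ∈ G, s g, fun h => ?_, fun b => ?_⟩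
  · obtain ⟨g, -, hg⟩ := ((‹p.IsPrime›).prod_mem_iff).1 h
    exact hs g hg
  · have hb : b ∈ Submodule.span A (G : Set B) := hG ▸ Submodule.mem_top
    induction hb using Submodule.span_induction with
    | mem g hg => rw [← Finset.prod_erase_mul _ _ hg, mul_smul]; exact S.smul_mem _ (hsb g)
    | zero => simp
    | add a c _ _ ha hc => rw [smul_add]; exact add_mem ha hc
    | smul a c _ hc => rw [smul_comm]; exact S.smul_mem a hc

end Groth.Agent.H26HilbChow
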